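import Cfsg.Agent.Lib.ChevStructure.RegTorusSeven.Norm

/-!
The lattice of type E7 with the companion matrix of (X⁴ - X² + 1)(X³ + 1), and the arithmetic of the eigenvector
for an integer q.
-/

set_option autoImplicit false
set_option maxRecDepth 100000
set_option linter.unusedSectionVars false

noncomputable section

namespace Cfsg.Agent.Lib.ChevStructure.RegTorusSeven

open Cfsg.Lie Cfsg.Agent.Lib.ChevStructure.RegTorus Cfsg.Agent.Lib.ChevStructure.SylowHom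
open scoped Matrix

/-- a matrix from rows -/
abbrev mat7 (X : List (List ℤ)) : Matrix I7 I7 ℤ := SylowHom.E7.matE X

/-- an index -/
def ix (k : ℕ) (h : k < 7) : I7 := ⟨k, lt_of_lt_of_eq h (by decide +kernel : 7 = chevE7.rank)⟩

/-- the Gram matrix of a cyclic basis -/
def Gz : Matrix I7 I7 ℤ := Matrix.of fun i j =>
  ([2, 0, 1, -1, 0, -1, 0] : List ℤ).getD (if i.val ≤ j.val then j.val - i.val else i.val - j.val) 0

/-- the companion matrix of X⁷ - X⁵ + X⁴ + X³ - X² + 1 -/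
def comp7 : Matrix I7 I7 ℤ :=
  mat7 [[0, 0, 0, 0, 0, 0, -1], [1, 0, 0, 0, 0, 0, 0], [0, 1, 0, 0, 0, 0, 1], [0, 0, 1, 0, 0, 0, -1],
    [0, 0, 0, 1, 0, 0, -1], [0, 0, 0, 0, 1, 0, 1], [0, 0, 0, 0, 0, 1, 0]]

/-- a basis with this Gram matrix -/
def Cy0 : Matrix I7 I7 ℤ :=
  mat7 [[-2, 0, -1, 1, 0, 1, 0], [-2, -1, -2, 0, 0, 1, 1], [-3, -1, -2, 0, 0, 1, 1], [-4, -2, -3, 0, 0, 1, 1],
    [-3, -2, -2, 0, 0, 1, 1], [-2, -2, -1, 0, 1, 1, 1], [-1, -1, -1, 0, 0, 1, 0]]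

/-- its inverse -/
def Cy0i : Matrix I7 I7 ℤ :=
  mat7 [[0, 1, -1, 0, 0, 0, 0], [0, 0, 1, 0, -1, 0, 0], [0, -1, 1, -1, 1, 0, 0], [1, 1, -2, 0, 1, 0, -1],
    [0, 0, 0, 1, -2, 1, 0], [0, 0, 1, -1, 0, 0, 1], [0, 1, 0, -1, 1, 0, -1]]

theorem Cy0_gram : Cy0ᵀ * B * Cy0 = Gz := by decide +kernel

theorem Cy0i_mul : Cy0i * Cy0 = 1 := by decide +kernel

/-- the root numbered n in the coordinates of a cyclic basis -/
def cz (n : ℕ) : I7 → ℤ := Cy0i *ᵥ vv n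

theorem nroots_eq : chevE7.nroots = 126 := by decide +kernel

theorem exists_cz {c : I7 → ℤ} (hc : bil Gz c c = 2) : ∃ n < 126, c = cz n := by
  have h : bil B (Cy0 *ᵥ c) (Cy0 *ᵥ c) = 2 := by
    rw [← hc, bil, bil, ← Cy0_gram, ← Matrix.mulVec_mulVec, ← Matrix.mulVec_mulVec, Matrix.dotProduct_mulVec c Cy0ᵀ,
      Matrix.vecMul_transpose]
  obtain ⟨x, hx⟩ := exists_root h
  refine ⟨x.val, lt_of_lt_of_eq x.isLt nroots_eq, ?_⟩
  rw [cz, ← v_eq, hx, Matrix.mulVec_mulVec, Cy0i_mul, Matrix.one_mulVec]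

/-- seven roots forming a basis -/
def Sb : Matrix I7 I7 ℤ :=
  Matrix.transpose (mat7 [[1, -1, 0, 2, -1, -1, 1], [0, 0, 0, 0, 0, 1, 0], [0, 0, 1, 0, -1, 0, 1],
    [0, -1, 1, 1, -1, 0, 1], [0, 0, 0, 0, 0, 0, 1], [0, -1, 0, 0, 0, 0, 0], [1, 0, 0, 0, 0, 0, 0]])

/-- its inverse -/
def Sbi : Matrix I7 I7 ℤ :=
  mat7 [[0, 0, -1, 0, -1, 0, 0], [0, 0, -1, 0, -1, 1, 0], [0, 0, -1, -1, -2, 0, 0], [0, 0, 2, 1, 2, 0, 0],
    [0, 0, 0, 0, 1, 0, 1], [0, -1, -1, -1, -1, 0, 0], [1, 0, 1, 0, 1, 0, 0]]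

theorem Sb_mul : Sb * Sbi = 1 := by decide +kernel

theorem Sb_norm : ∀ i : I7, bil Gz (fun m => Sb m i) (fun m => Sb m i) = 2 := by decide +kernel

/-- the value of a coordinate vector at q -/
def Pq (q : ℤ) (c : I7 → ℤ) : ℤ := ∑ i, c i * q ^ (i : ℕ)

/-- (q⁴ - q² + 1)(q³ + 1) -/
def Mq (q : ℤ) : ℤ := q ^ 7 - q ^ 5 + q ^ 4 + q ^ 3 - q ^ 2 + 1

theorem sum_seven {α : Type*} [AddCommMonoid α] (u : I7 → α) :
    ∑ i, u i = u (ix 0 (by omega)) + u (ix 1 (by omega)) + u (ix 2 (by omega)) + u (ix 3 (by omega)) +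
      u (ix 4 (by omega)) + u (ix 5 (by omega)) + u (ix 6 (by omega)) :=
  Fin.sum_univ_seven (u : Fin 7 → α)

theorem ix_cases (i : I7) : i = ix 0 (by omega) ∨ i = ix 1 (by omega) ∨ i = ix 2 (by omega) ∨
    i = ix 3 (by omega) ∨ i = ix 4 (by omega) ∨ i = ix 5 (by omega) ∨ i = ix 6 (by omega) := by
  revert i; decide +kernel

/-- the bound on the coordinates of roots -/
def bd (i : I7) : ℤ := ([1, 1, 2, 2, 2, 1, 1] : List ℤ).getD i.val 0

theorem cz_bound : ∀ x : Rt chevE7, ∀ i : I7, |cz x.val i| ≤ bd i := by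
  unfold Rt; decide +kernel

theorem cz_small : ∀ q < 9, 2 ≤ q → ∀ x : Rt chevE7,
    ¬ Mq (q : ℕ) ∣ ((Nat.gcd 2 (q - 1) : ℕ) : ℤ) * Pq (q : ℕ) (cz x.val) ∧
      ∀ i : I7, cz x.val ≠ (fun m => Sb m i) →
        ¬ Mq (q : ℕ) ∣ ((Nat.gcd 2 (q - 1) : ℕ) : ℤ) * Pq (q : ℕ) (cz x.val - fun m => Sb m i) := by
  unfold Rt; decide +kernel

theorem digit {q a b : ℤ} {k : ℤ} (hk : |a| ≤ k) (hq : k < q) (h : a + q * b = 0) : a = 0 ∧ b = 0 := by
  have hd : q ∣ a := ⟨-b, by linarith⟩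
  have ha := Int.eq_zero_of_abs_lt_dvd hd (lt_of_le_of_lt hk hq)
  subst ha
  refine ⟨rfl, ?_⟩
  rw [zero_add, mul_eq_zero] at h
  exact h.resolve_left (by have := abs_nonneg (0 : ℤ); omega)

theorem no_small_dvd {q : ℤ} (hq : 9 ≤ q) {g : ℤ} (hg : g = 1 ∨ g = 2) {d : I7 → ℤ} (hb : ∀ i, |d i| ≤ 2 * bd i)
    (h : Mq q ∣ g * Pq q d) : d = 0 := by
  have hM : |g * Pq q d| < Mq q := by
    have hb' : |Pq q d| ≤ ∑ i, 2 * bd i * q ^ (i : ℕ) := by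
      refine (Finset.abs_sum_le_sum_abs _ _).trans (Finset.sum_le_sum fun i _ => ?_)
      rw [abs_mul, abs_of_nonneg (pow_nonneg (by omega : (0 : ℤ) ≤ q) _)]
      exact mul_le_mul_of_nonneg_right (hb i) (pow_nonneg (by omega) _)
    have hg' : |g| ≤ 2 := by rcases hg with rfl | rfl <;> norm_num
    rw [abs_mul]
    refine lt_of_le_of_lt (mul_le_mul hg' hb' (abs_nonneg _) (by norm_num)) ?_
    rw [sum_seven]
    simp [bd, ix, Mq]
    nlinarith [pow_le_pow_left₀ (by norm_num : (0 : ℤ) ≤ 9) hq 6, mul_le_mul_of_nonneg_right hq (pow_nonneg (by omega : (0 : ℤ) ≤ q) 6),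
      mul_le_mul_of_nonneg_right hq (pow_nonneg (by omega : (0 : ℤ) ≤ q) 5), mul_le_mul_of_nonneg_right hq (pow_nonneg (by omega : (0 : ℤ) ≤ q) 4),
      mul_le_mul_of_nonneg_right hq (pow_nonneg (by omega : (0 : ℤ) ≤ q) 3), mul_le_mul_of_nonneg_right hq (pow_nonneg (by omega : (0 : ℤ) ≤ q) 2),
      mul_le_mul_of_nonneg_right hq (pow_nonneg (by omega : (0 : ℤ) ≤ q) 1)]
  have h0 := Int.eq_zero_of_abs_lt_dvd h hM
  rcases mul_eq_zero.1 h0 with h0 | h0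
  · rcases hg with rfl | rfl <;> norm_num at h0
  rw [Pq, sum_seven] at h0
  have hbd : ∀ i : I7, |d i| ≤ 4 := fun i => (hb i).trans (by
    rcases ix_cases i with rfl | rfl | rfl | rfl | rfl | rfl | rfl <;> simp [bd, ix])
  simp only [ix] at h0
  set d0 := d (ix 0 (by omega)) with e0
  set d1 := d (ix 1 (by omega)) with e1
  set d2 := d (ix 2 (by omega)) with e2
  set d3 := d (ix 3 (by omega)) with e3
  set d4 := d (ix 4 (by omega)) with e4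
  set d5 := d (ix 5 (by omega)) with e5
  set d6 := d (ix 6 (by omega)) with e6
  have k0 := digit (q := q) (a := d0) (b := d1 + q * (d2 + q * (d3 + q * (d4 + q * (d5 + q * d6))))) (hbd _) (by omega)
    (by rw [← h0]; simp only [e0, e1, e2, e3, e4, e5, e6, ix]; ring)
  have k1 := digit (hbd _) (by omega) k0.2
  have k2 := digit (hbd _) (by omega) k1.2
  have k3 := digit (hbd _) (by omega) k2.2
  have k4 := digit (hbd _) (by omega) k3.2
  have k5 := digit (hbd _) (by omega) k4.2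
  funext i
  rcases ix_cases i with rfl | rfl | rfl | rfl | rfl | rfl | rfl
  exacts [k0.1, k1.1, k2.1, k3.1, k4.1, k5.1, k5.2]

/-- Roots take nonzero values and the seven chosen roots are determined by their values. -/
theorem separation {q : ℕ} (hq : 2 ≤ q) {c : I7 → ℤ} (hc : bil Gz c c = 2) :
    ¬ Mq (q : ℤ) ∣ ((Nat.gcd 2 (q - 1) : ℕ) : ℤ) * Pq (q : ℤ) c ∧
      ∀ i : I7, Mq (q : ℤ) ∣ ((Nat.gcd 2 (q - 1) : ℕ) : ℤ) * Pq (q : ℤ) (c - fun m => Sb m i) → c = fun m => Sb m i := by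
  obtain ⟨n, hn, rfl⟩ := exists_cz hc
  set x : Rt chevE7 := ⟨n, lt_of_lt_of_eq hn nroots_eq.symm⟩
  by_cases hq9 : q < 9
  · obtain ⟨h1, h2⟩ := cz_small q hq9 hq x
    exact ⟨h1, fun i h => by_contra fun hne => h2 i hne h⟩
  · have hg : ((Nat.gcd 2 (q - 1) : ℕ) : ℤ) = 1 ∨ ((Nat.gcd 2 (q - 1) : ℕ) : ℤ) = 2 := by
      rcases (Nat.dvd_prime Nat.prime_two).1 (Nat.gcd_dvd_left 2 (q - 1)) with h | h <;> simp [h]
    refine ⟨fun h => ?_, fun i h => ?_⟩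
    · have := no_small_dvd (by omega) hg (fun i => (cz_bound x i).trans (by
        have := (abs_nonneg (cz x.val i)).trans (cz_bound x i); omega)) h
      rw [this] at hc
      simp [bil] at hc
    · obtain ⟨m, hm, hSm⟩ := exists_cz (Sb_norm i)
      refine sub_eq_zero.1 (no_small_dvd (by omega) hg (fun k => ?_) h)
      have h1 := cz_bound x k
      have h2 := cz_bound ⟨m, lt_of_lt_of_eq hm nroots_eq.symm⟩ k
      have h3 : |(cz x.val - fun j => Sb j i) k| ≤ |cz x.val k| + |Sb k i| := abs_sub _ _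
      rw [congrFun hSm k] at h3
      linarith

/-- the fixed vector of q times the companion matrix -/
def xq (q : ℤ) (i : I7) : ℤ :=
  ([-q, -q ^ 2, q - q ^ 3, q ^ 2 - q ^ 4 - q, q ^ 3 - q ^ 5 - q ^ 2 - q, q ^ 4 - q ^ 6 - q ^ 3 - q ^ 2 + q, 1] : List ℤ).getD
    i.val 0

/-- its value at the first vector -/
def k0 (q : ℤ) : ℤ := q ^ 6 - q

theorem comp7_xq (q : ℤ) : q • (comp7 *ᵥ xq q) = xq q - Mq q • Pi.single (ix 6 (by omega)) 1 := by
  funext i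
  rcases ix_cases i with rfl | rfl | rfl | rfl | rfl | rfl | rfl <;>
    simp [Matrix.mulVec, dotProduct, sum_seven, comp7, mat7, SylowHom.E7.matE, xq, ix, Mq, Pi.single_apply] <;> ring

theorem Gz_xq (q : ℤ) (i : I7) : Mq q ∣ (Gz *ᵥ xq q) i - q ^ (i : ℕ) * k0 q := by
  rcases ix_cases i with rfl | rfl | rfl | rfl | rfl | rfl | rfl
  · exact ⟨0, by simp [Matrix.mulVec, dotProduct, sum_seven, Gz, xq, ix, Mq, k0]; ring⟩
  · exact ⟨-1, by simp [Matrix.mulVec, dotProduct, sum_seven, Gz, xq, ix, Mq, k0]; ring⟩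
  · exact ⟨-q, by simp [Matrix.mulVec, dotProduct, sum_seven, Gz, xq, ix, Mq, k0]; ring⟩
  · exact ⟨-1 - q ^ 2, by simp [Matrix.mulVec, dotProduct, sum_seven, Gz, xq, ix, Mq, k0]; ring⟩
  · exact ⟨1 - q - q ^ 3, by simp [Matrix.mulVec, dotProduct, sum_seven, Gz, xq, ix, Mq, k0]; ring⟩
  · exact ⟨q - q ^ 2 - q ^ 4, by simp [Matrix.mulVec, dotProduct, sum_seven, Gz, xq, ix, Mq, k0]; ring⟩
  · exact ⟨2 + q ^ 2 - q ^ 3 - q ^ 5, by simp [Matrix.mulVec, dotProduct, sum_seven, Gz, xq, ix, Mq, k0]; ring⟩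

theorem two_bezout (q : ℤ) : (1 - q + 3 * q ^ 3 - 2 * q ^ 4 - q ^ 5 + 3 * q ^ 6) * k0 q +
    (2 + q + q ^ 2 - q ^ 3 + q ^ 4 - 3 * q ^ 5) * Mq q = 2 := by
  simp only [k0, Mq]; ring

theorem k0_even (q : ℤ) : (2 : ℤ) ∣ k0 q := by
  rw [k0, ← even_iff_two_dvd, Int.even_sub, Int.even_pow]
  simp

end Cfsg.Agent.Lib.ChevStructure.RegTorusSeven

end
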