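import Cfsg.Agent.Lib.ChevStructure.RegTorusSeven.Embed67
import Cfsg.Agent.Lib.ChevStructure.RegTorusSeven.Model
import Cfsg.Agent.Lib.ChevStructure.RegTorusSix.Lattice
import Mathlib.GroupTheory.Perm.Cycle.Type

/-!
An element with the profile, extended to type E₇, fixes after three steps a root outside the subdiagram; this
gives a basis of the lattice in which its matrix is explicit.
-/

set_option autoImplicit false
set_option maxRecDepth 100000
set_option linter.unusedSectionVars false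

noncomputable section

namespace Cfsg.Agent.Lib.ChevStructure.RegTorusSeven

open Cfsg.Lie Cfsg.Agent.Lib.ChevStructure.RegTorus Cfsg.Agent.Lib.ChevStructure.SylowHom
open scoped Matrix

local notation "I6" => Fin chevE6.rank

/-- the Gram matrix of the extended basis -/
def G7 : Matrix I7 I7 ℤ :=
  mat7 [[2, 0, 0, 1, -1, -1, 1], [0, 2, 0, 0, 1, -1, -1], [0, 0, 2, 0, 0, 1, 0], [1, 0, 0, 2, 0, 0, 1],
    [-1, 1, 0, 0, 2, 0, -1], [-1, -1, 1, 0, 0, 2, 0], [1, -1, 0, 1, -1, 0, 2]]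

/-- the matrix of the extended element -/
def Pm7 : Matrix I7 I7 ℤ :=
  mat7 [[0, 0, 0, 0, 0, -1, 1], [1, 0, 0, 0, 0, -1, 1], [0, 1, 0, 0, 0, 0, -1], [0, 0, 1, 0, 0, 1, -1],
    [0, 0, 0, 1, 0, 0, 1], [0, 0, 0, 0, 1, -1, 1], [0, 0, 0, 0, 0, 0, 1]]

theorem ix6_val (m : I7) : m.val = 6 ↔ m = ix 6 (by omega) := ⟨fun h => Fin.ext h, fun h => h ▸ rfl⟩

theorem ext_mulVec {M N : Matrix I7 I7 ℤ} (h : ∀ j, M *ᵥ Pi.single j 1 = N *ᵥ Pi.single j 1) : M = N := by
  ext i j
  simpa [Matrix.mulVec_single] using congrFun (h j) i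

/-- The bound on the form on two roots. -/
theorem bil_bound (a b : Rt chevE7) (h1 : C.v a ≠ C.v b) (h2 : C.v a ≠ - C.v b) :
    -1 ≤ bil B (C.v a) (C.v b) ∧ bil B (C.v a) (C.v b) ≤ 1 := by
  have na := root_norm a
  have nb := root_norm b
  have p1 : 0 < bil B (C.v a - C.v b) (C.v a - C.v b) := norm_pos (sub_ne_zero.2 h1)
  have p2 : 0 < bil B (C.v a + C.v b) (C.v a + C.v b) := norm_pos fun e => h2 (eq_neg_of_add_eq_zero_left e)
  simp only [bil_sub_left, bil_sub_right, bil_comm B SylowHom.E7.B_symm (C.v b) (C.v a), na, nb] at p1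
  simp only [bil_add_left, bil_add_right, bil_comm B SylowHom.E7.B_symm (C.v b) (C.v a), na, nb] at p2
  omega

/-- the values of the outside root on the orbit of the cyclic root -/
def gv (k : ℕ) : ℤ := ([1, -1, 0] : List ℤ).getD (k % 3) 0

theorem G7_table : ∀ p : I7 × I7, (if p.1.val = 6 then (if p.2.val = 6 then 2 else gv p.2.val) else
    if p.2.val = 6 then gv p.1.val else
      RegTorusSix.cval (if p.1.val ≤ p.2.val then p.2.val - p.1.val else p.1.val - p.2.val)) = G7 p.1 p.2 := by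
  decide +kernel

theorem Pm7_last : ∀ j : I7, j.val ≠ 6 →
    bil G7 (Pi.single j 1) (Pm7 *ᵥ Pi.single (ix 6 (by omega)) 1) = gv (j.val + 2) := by
  decide +kernel

theorem comp_col5 : RegTorusSix.comp *ᵥ Pi.single (RegTorusSix.ix 5 (by omega)) 1 =
    - Pi.single (RegTorusSix.ix 0 (by omega)) 1 - Pi.single (RegTorusSix.ix 1 (by omega)) 1 +
      Pi.single (RegTorusSix.ix 3 (by omega)) 1 - Pi.single (RegTorusSix.ix 5 (by omega)) (1 : ℤ) := by
  decide +kernel

theorem Pm7_corner : (Pm7 *ᵥ Pi.single (ix 6 (by omega)) 1) (ix 6 (by omega)) = 1 := by decide +kernel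

theorem Pm7_next : ∀ k : Fin 5,
    Pm7 *ᵥ Pi.single (ix k.val (by omega)) 1 = Pi.single (ix (k.val + 1) (by omega)) 1 := by
  decide +kernel

theorem Pm7_col5 : Pm7 *ᵥ Pi.single (ix 5 (by omega)) 1 = - Pi.single (ix 0 (by omega)) 1 -
    Pi.single (ix 1 (by omega)) 1 + Pi.single (ix 3 (by omega)) 1 - Pi.single (ix 5 (by omega)) (1 : ℤ) := by
  decide +kernel

theorem comp_pow : RegTorusSix.comp ^ 12 = 1 := by decide +kernel

theorem S_card : (Finset.univ.filter fun x : Rt chevE7 => vv x.val (ix 6 (by omega)) = 1).card = 27 := by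
  unfold Rt; decide +kernel

theorem comp_mul (M N : Matrix I6 I6 ℤ) (h : M * N = N * RegTorusSix.comp) :
    ∀ k : ℕ, M ^ k * N = N * RegTorusSix.comp ^ k
  | 0 => by rw [pow_zero, pow_zero, one_mul, mul_one]
  | k + 1 => by
    rw [pow_succ', mul_assoc, comp_mul M N h k, ← mul_assoc, h, mul_assoc, ← pow_succ']

variable {σ : Equiv.Perm (Rt chevE6)} {y : Rt chevE6}

theorem good_pow_twelve (hσ : σ ∈ RegTorusSix.C.WG) (hy : RegTorusSix.Good σ y) : σ ^ 12 = 1 := by
  refine eq_one_of_mat RegTorusSix.C (pow_mem hσ _) ?_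
  rw [mat_pow RegTorusSix.C hσ]
  have h := comp_mul (mat RegTorusSix.C σ) (RegTorusSix.cy σ y) (hy.shift hσ) 12
  rw [comp_pow, Matrix.mul_one] at h
  obtain ⟨h1, -⟩ := hy.cy_inv hσ
  calc mat RegTorusSix.C σ ^ 12 = mat RegTorusSix.C σ ^ 12 * (RegTorusSix.cy σ y * RegTorusSix.cyi σ y) := by
        rw [h1, Matrix.mul_one]
    _ = 1 := by rw [← Matrix.mul_assoc, h, h1]

theorem good_pow (hσ : σ ∈ RegTorusSix.C.WG) (hy : RegTorusSix.Good σ y) (k : ℕ) :
    RegTorusSix.Good σ ((σ ^ k) y) := by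
  refine ⟨fun j hj => ?_⟩
  rw [← hy.prof j hj, show (σ ^ (j + 1)) ((σ ^ k) y) = (σ ^ k) ((σ ^ (j + 1)) y) by
    rw [← Equiv.Perm.mul_apply, ← Equiv.Perm.mul_apply, ← pow_add, ← pow_add, add_comm],
    RegTorusSix.B2_apply (pow_mem hσ k)]

theorem good_rev (hσ : σ ∈ RegTorusSix.C.WG) (hy : RegTorusSix.Good σ y) : RegTorusSix.Good σ y.rev := by
  refine ⟨fun j hj => ?_⟩
  rw [← hy.prof j hj, RegTorusSix.C.WG_rev ⟨σ ^ (j + 1), pow_mem hσ _⟩, RegTorusSix.B2, RegTorusSix.B2,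
    RegTorusSix.C.v_rev, RegTorusSix.C.v_rev]
  simp [bil, Matrix.mulVec_neg]

theorem cy_col (hσ : σ ∈ RegTorusSix.C.WG) (k : I6) :
    RegTorusSix.cy σ y *ᵥ Pi.single k 1 = RegTorusSix.C.v ((σ ^ k.val) y) := by
  rw [Matrix.mulVec_single_one]
  exact v_pow RegTorusSix.C hσ k.val y

theorem orth_of_cyc (hσ : σ ∈ RegTorusSix.C.WG) (hy : RegTorusSix.Good σ y) {z : I7 → ℤ}
    (h : ∀ k < 6, bil B (C.v (emb67.f ((σ ^ k) y))) z = 0) (x : I6 → ℤ) : bil B (J *ᵥ x) z = 0 := by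
  obtain ⟨h1, -⟩ := hy.cy_inv hσ
  set a := RegTorusSix.cyi σ y *ᵥ x with ha
  have hz : (B *ᵥ z) ᵥ* (J * RegTorusSix.cy σ y) = 0 := by
    funext k
    have hk := h k.val (lt_of_lt_of_eq k.isLt RegTorusSix.rank_eq)
    rw [f_v, ← cy_col hσ k, bil, dotProduct_comm, Matrix.mulVec_mulVec, Matrix.mulVec_single_one] at hk
    exact hk
  rw [show x = RegTorusSix.cy σ y *ᵥ a by rw [ha, Matrix.mulVec_mulVec, h1, Matrix.one_mulVec],
    Matrix.mulVec_mulVec, bil, dotProduct_comm, Matrix.dotProduct_mulVec, hz, zero_dotProduct]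

theorem J_restrict {d : I7 → ℤ} (hd : d (ix 6 (by omega)) = 0) :
    d = J *ᵥ fun k => d (Fin.castLE rank67_le k) := by
  funext m
  rw [Matrix.mulVec, dotProduct]
  by_cases hm : m.val = 6
  · rw [(ix6_val m).1 hm, hd, Finset.sum_eq_zero]
    intro k _
    have := k.isLt
    have h6 : chevE6.rank = 6 := RegTorusSix.rank_eq
    rw [J, Matrix.of_apply, if_neg (show (ix 6 (by omega) : I7).val ≠ k.val by simp [ix]; omega), zero_mul]
  · have h7 : chevE7.rank = 7 := by decide +kernel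
    have h6 : chevE6.rank = 6 := RegTorusSix.rank_eq
    have hm' : m.val < chevE6.rank := by have := m.isLt; omega
    rw [Finset.sum_eq_single ⟨m.val, hm'⟩]
    · rw [J, Matrix.of_apply, if_pos rfl, one_mul]; rfl
    · intro k _ hk
      rw [J, Matrix.of_apply, if_neg (fun e => hk (Fin.ext e.symm)), zero_mul]
    · simp

/-- The data in type E₇. -/
structure Frame (π : Equiv.Perm (Rt chevE7)) (β : Rt chevE7) (Cb : Matrix I7 I7 ℤ) : Prop where
  fix3 : (π ^ 3) β = β
  gram : Cbᵀ * B * Cb = G7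
  shift : mat C π * Cb = Cb * Pm7
  last : Cb *ᵥ Pi.single (ix 6 (by omega)) 1 = C.v β

theorem bil_gram {Cb : Matrix I7 I7 ℤ} (h : Cbᵀ * B * Cb = G7) (a b : I7 → ℤ) :
    bil B (Cb *ᵥ a) (Cb *ᵥ b) = bil G7 a b := by
  rw [bil, bil, ← h, ← Matrix.mulVec_mulVec, ← Matrix.mulVec_mulVec, Matrix.dotProduct_mulVec a Cbᵀ,
    Matrix.vecMul_transpose]

theorem orth_table : bil G7 (Pi.single (ix 6 (by omega)) 1) (Pm7 *ᵥ Pi.single (ix 6 (by omega)) 1) = 0 ∧
    bil G7 (Pi.single (ix 6 (by omega)) 1) (Pm7 *ᵥ (Pm7 *ᵥ Pi.single (ix 6 (by omega)) 1)) = 0 ∧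
    bil G7 (Pm7 *ᵥ Pi.single (ix 6 (by omega)) 1) (Pm7 *ᵥ (Pm7 *ᵥ Pi.single (ix 6 (by omega)) 1)) = 0 := by
  decide +kernel

theorem Frame.orth {π : Equiv.Perm (Rt chevE7)} {β : Rt chevE7} {Cb : Matrix I7 I7 ℤ} (hF : Frame π β Cb)
    (hπ : π ∈ C.WG) :
    bil B (C.v β) (C.v (π β)) = 0 ∧ bil B (C.v β) (C.v ((π ^ 2) β)) = 0 ∧
      bil B (C.v (π β)) (C.v ((π ^ 2) β)) = 0 := by
  have h1 : C.v (π β) = Cb *ᵥ (Pm7 *ᵥ Pi.single (ix 6 (by omega)) 1) := by
    rw [← mat_mulVec C hπ, ← hF.last, Matrix.mulVec_mulVec, hF.shift, ← Matrix.mulVec_mulVec]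
  have h2 : C.v ((π ^ 2) β) = Cb *ᵥ (Pm7 *ᵥ (Pm7 *ᵥ Pi.single (ix 6 (by omega)) 1)) := by
    rw [pow_two, Equiv.Perm.mul_apply, ← mat_mulVec C hπ, h1, Matrix.mulVec_mulVec, hF.shift,
      ← Matrix.mulVec_mulVec]
  rw [← hF.last, h1, h2, bil_gram hF.gram, bil_gram hF.gram, bil_gram hF.gram]
  exact orth_table

theorem exists_frame {L : List I6} {y₀ : Rt chevE6} (hy₀ : RegTorusSix.Good (RegTorusSix.C.pprod L) y₀) :
    ∃ (β : Rt chevE7) (Cb : Matrix I7 I7 ℤ), Frame (C.pprod (L.map (Fin.castLE rank67_le))) β Cb := by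
  classical
  set σ := RegTorusSix.C.pprod L
  have hσ : σ ∈ RegTorusSix.C.WG := RegTorusSix.C.pprod_mem_WG L
  set π := C.pprod (L.map (Fin.castLE rank67_le)) with hπdef
  have hπ : π ∈ C.WG := C.pprod_mem_WG _
  have hf : ∀ x, π (emb67.f x) = emb67.f (σ x) := fun x => f_pprod L x
  have hfn : ∀ (n : ℕ) x, (π ^ n) (emb67.f x) = emb67.f ((σ ^ n) x) := by
    intro n
    induction n with
    | zero => intro x; rfl
    | succ n ih => intro x; rw [pow_succ', pow_succ', Equiv.Perm.mul_apply, Equiv.Perm.mul_apply, ih, hf]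
  have hlast : ∀ x, C.v (π x) (ix 6 (by omega)) = C.v x (ix 6 (by omega)) := by
    intro x
    have hmem : π ∈ C.WJ 6 := by
      refine C.pprod_mem_WJ fun i hi => ?_
      obtain ⟨k, -, rfl⟩ := List.mem_map.1 hi
      have h6 : chevE6.rank = 6 := RegTorusSix.rank_eq
      have := k.isLt
      simp only [Fin.val_castLE]
      omega
    exact C.WJ_coord hmem x _ le_rfl
  -- the twelfth power
  have hσ12 := good_pow_twelve hσ hy₀
  have h12fix : ∀ i : I7, i.val ≠ 6 → (π ^ 12) (C.p i) = C.p i := by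
    intro i hi
    have h7 : chevE7.rank = 7 := by decide +kernel
    have h6 : chevE6.rank = 6 := RegTorusSix.rank_eq
    have hi' : i.val < chevE6.rank := by have := i.isLt; omega
    have e : C.p i = emb67.f (RegTorusSix.C.p ⟨i.val, hi'⟩) := by
      rw [emb67.f_p]; rfl
    rw [e, hfn, hσ12, Equiv.Perm.one_apply]
  have hπ12 : π ^ 12 = 1 := by
    refine eq_one_of_mat C (pow_mem hπ _) ?_
    set ρ := π ^ 12
    have hρ : ρ ∈ C.WG := pow_mem hπ _
    set p6 := C.p (ix 6 (by omega))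
    set u := C.v (ρ p6) - C.v p6 with hu
    have hu6 : u (ix 6 (by omega)) = 0 := by
      have : ∀ (n : ℕ) x, C.v ((π ^ n) x) (ix 6 (by omega)) = C.v x (ix 6 (by omega)) := by
        intro n
        induction n with
        | zero => intro x; rfl
        | succ n ih => intro x; rw [pow_succ', Equiv.Perm.mul_apply, hlast, ih]
      rw [hu, Pi.sub_apply, this, sub_self]
    have hρu : mat C ρ *ᵥ u = u := by
      funext m
      rw [Matrix.mulVec, dotProduct]
      have : ∀ k, mat C ρ m k * u k = (if m = k then 1 else 0) * u k := by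
        intro k
        by_cases hk : k.val = 6
        · rw [(ix6_val k).1 hk, hu6, mul_zero, mul_zero]
        · rw [mat, Matrix.of_apply, h12fix k hk, C.v_p, Pi.single_apply]
      simp [this]
    have hn : ∀ n : ℕ, C.v ((ρ ^ n) p6) = C.v p6 + (n : ℤ) • u := by
      intro n
      induction n with
      | zero => simp
      | succ n ih =>
        rw [pow_succ', Equiv.Perm.mul_apply, ← mat_mulVec C hρ, ih, Matrix.mulVec_add, Matrix.mulVec_smul, hρu,
          mat_mulVec C hρ, hu]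
        push_cast
        rw [add_smul, one_smul]
        abel
    have h0 := hn (orderOf ρ)
    rw [pow_orderOf_eq_one, Equiv.Perm.one_apply, left_eq_add, smul_eq_zero] at h0
    have hu0 : u = 0 := h0.resolve_left (by have := orderOf_pos ρ; omega)
    ext m k
    by_cases hk : k.val = 6
    · rw [(ix6_val k).1 hk, mat, Matrix.of_apply]
      have := congrFun (sub_eq_zero.1 hu0) m
      rw [this, C.v_p, Matrix.one_apply, Pi.single_apply]
    · rw [mat, Matrix.of_apply, h12fix k hk, C.v_p, Matrix.one_apply, Pi.single_apply]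
  -- a fixed root with coefficient one at the last node
  obtain ⟨β, hβ1, hβ⟩ : ∃ β : Rt chevE7, C.v β (ix 6 (by omega)) = 1 ∧ (π ^ 3) β = β := by
    let p : Rt chevE7 → Prop := fun x => C.v x (ix 6 (by omega)) = 1
    have hp : ∀ x, p ((π ^ 3) x) ↔ p x := fun x => by
      show _ = (1 : ℤ) ↔ _ = (1 : ℤ)
      rw [pow_succ', pow_succ', pow_one, Equiv.Perm.mul_apply, Equiv.Perm.mul_apply, hlast, hlast, hlast]
    let τ : Equiv.Perm (Subtype p) := (π ^ 3).subtypePerm hp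
    have : Fact (Nat.Prime 2) := ⟨Nat.prime_two⟩
    have hcard : ¬ 2 ∣ Fintype.card (Subtype p) := by
      rw [Fintype.card_subtype, show (Finset.univ.filter p) =
        Finset.univ.filter (fun x : Rt chevE7 => vv x.val (ix 6 (by omega)) = 1) from
          Finset.filter_congr fun x _ => Iff.rfl, S_card]
      norm_num
    have hτ : τ ^ 2 ^ 2 = 1 := Equiv.ext fun x => Subtype.ext (by
      show ((τ ^ 2 ^ 2) x).1 = x.1
      rw [Equiv.Perm.subtypePerm_pow, Equiv.Perm.subtypePerm_apply]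
      show ((π ^ 3) ^ 2 ^ 2) x.1 = x.1
      rw [← pow_mul]
      norm_num [hπ12])
    obtain ⟨x, hx⟩ := Equiv.Perm.exists_fixed_point_of_prime hcard hτ
    exact ⟨x.1, x.2, congrArg Subtype.val hx⟩
  -- the values on the orbit of the cyclic root
  let g : Rt chevE6 → ℕ → ℤ := fun y j => bil B (C.v (emb67.f ((σ ^ j) y))) (C.v β)
  have hper : ∀ y j, g y (j + 3) = g y j := by
    intro y j
    show bil B _ _ = bil B _ _
    rw [show j + 3 = 3 + j by omega, pow_add, Equiv.Perm.mul_apply, ← hfn, ← mat_mulVec C (pow_mem hπ 3)]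
    conv_lhs => rw [← hβ, ← mat_mulVec C (pow_mem hπ 3)]
    rw [bil_mulVec B (inv (pow_mem hπ 3))]
  have hrel6 : ∀ y, RegTorusSix.Good σ y → RegTorusSix.C.v ((σ ^ 6) y) = - RegTorusSix.C.v y -
      RegTorusSix.C.v ((σ ^ 1) y) + RegTorusSix.C.v ((σ ^ 3) y) - RegTorusSix.C.v ((σ ^ 5) y) := by
    intro y hy
    have h := congrArg (fun X : Matrix I6 I6 ℤ => X *ᵥ Pi.single (RegTorusSix.ix 5 (by omega)) 1) (hy.shift hσ)
    simp only [← Matrix.mulVec_mulVec] at h
    rw [comp_col5] at h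
    simp only [Matrix.mulVec_add, Matrix.mulVec_sub, Matrix.mulVec_neg, cy_col hσ] at h
    rw [mat_mulVec RegTorusSix.C hσ] at h
    exact h
  have hsum : ∀ y, RegTorusSix.Good σ y → g y 0 + g y 1 + g y 2 = 0 := by
    intro y hy
    have h := congrArg (fun z => bil B (J *ᵥ z) (C.v β)) (hrel6 y hy)
    simp only [Matrix.mulVec_add, Matrix.mulVec_sub, Matrix.mulVec_neg, ← f_v, bil_add_left, bil_sub_left] at h
    have hneg : bil B (- C.v (emb67.f y)) (C.v β) = - g y 0 := by simp [bil, g]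
    rw [hneg] at h
    change g y (3 + 3) = _ - g y 1 + g y (0 + 3) - g y (2 + 3) at h
    rw [hper, hper, hper] at h
    have h3 : g y 3 = g y 0 := hper y 0
    omega
  have hnz : ∀ y, RegTorusSix.Good σ y → ¬ (g y 0 = 0 ∧ g y 1 = 0 ∧ g y 2 = 0) := by
    intro y hy h
    have hall : ∀ j < 6, g y j = 0 := by
      intro j hj
      interval_cases j
      exacts [h.1, h.2.1, h.2.2, (hper y 0).trans h.1, (hper y 1).trans h.2.1, (hper y 2).trans h.2.2]
    have hlow : ∀ i : I7, i.val ≠ 6 → (B *ᵥ C.v β) i = 0 := by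
      intro i hi
      rw [← bil_single, J_restrict (d := Pi.single i 1) (by
        rw [Pi.single_eq_of_ne (fun e => hi (by rw [← e]; rfl))])]
      exact orth_of_cyc hσ hy hall _
    set t := (B *ᵥ C.v β) (ix 6 (by omega))
    have h2 := congrArg (fun X : Matrix I7 I7 ℤ => (X *ᵥ C.v β) (ix 6 (by omega))) SylowHom.E7.B'_mul
    simp only [← Matrix.mulVec_mulVec, Matrix.smul_mulVec, Matrix.one_mulVec, Pi.smul_apply, smul_eq_mul] at h2
    rw [show ∀ z : I7 → ℤ, (SylowHom.E7.B' *ᵥ z) (ix 6 (by omega)) =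
        ∑ k, SylowHom.E7.B' (ix 6 (by omega)) k * z k from fun z => rfl, sum_seven, hlow _ (by simp [ix]), hlow _ (by simp [ix]), hlow _ (by simp [ix]),
      hlow _ (by simp [ix]), hlow _ (by simp [ix]), hlow _ (by simp [ix]), hβ1] at h2
    simp [SylowHom.E7.B', SylowHom.E7.matE, ix] at h2
    omega
  have hbound : ∀ y j, -1 ≤ g y j ∧ g y j ≤ 1 := by
    intro y j
    refine bil_bound _ _ (fun e => ?_) (fun e => ?_) <;>
    · have := congrFun e (ix 6 (by omega))
      simp [f_last _ _ (rfl : (ix 6 (by omega)).val = 6), hβ1] at this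
  -- a normalised cyclic root
  obtain ⟨y, hy, hg0, hg1, hg2⟩ :
      ∃ y, RegTorusSix.Good σ y ∧ g y 0 = 1 ∧ g y 1 = -1 ∧ g y 2 = 0 := by
    have hshift : ∀ y k j, g ((σ ^ k) y) j = g y (j + k) := fun y k j => by
      simp only [g, ← Equiv.Perm.mul_apply, ← pow_add]
    have hrev : ∀ y j, g y.rev j = - g y j := fun y j => by
      simp only [g, RegTorusSix.C.WG_rev ⟨σ ^ j, pow_mem hσ _⟩, f_v, RegTorusSix.C.v_rev, Matrix.mulVec_neg]
      simp [bil]
    have key : ∀ k, ∃ y, RegTorusSix.Good σ y ∧ g y 0 = g y₀ k ∧ g y 1 = g y₀ (k + 1) ∧ g y 2 = g y₀ (k + 2) :=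
      fun k => ⟨(σ ^ k) y₀, good_pow hσ hy₀ k, by rw [hshift, zero_add], by rw [hshift, add_comm],
        by rw [hshift, add_comm]⟩
    have key' : ∀ k, ∃ y, RegTorusSix.Good σ y ∧ g y 0 = -g y₀ k ∧ g y 1 = -g y₀ (k + 1) ∧ g y 2 = -g y₀ (k + 2) :=
      fun k => ⟨((σ ^ k) y₀).rev, good_rev hσ (good_pow hσ hy₀ k), by rw [hrev, hshift, zero_add],
        by rw [hrev, hshift, add_comm], by rw [hrev, hshift, add_comm]⟩
    have b0 := hbound y₀ 0
    have b1 := hbound y₀ 1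
    have b2 := hbound y₀ 2
    have h3 : g y₀ 3 = g y₀ 0 := hper y₀ 0
    have h4 : g y₀ 4 = g y₀ 1 := hper y₀ 1
    have hs := hsum y₀ hy₀
    have hn := hnz y₀ hy₀
    have cases6 : (g y₀ 0 = 1 ∧ g y₀ 1 = -1 ∧ g y₀ 2 = 0) ∨ (g y₀ 0 = -1 ∧ g y₀ 1 = 0 ∧ g y₀ 2 = 1) ∨
        (g y₀ 0 = 0 ∧ g y₀ 1 = 1 ∧ g y₀ 2 = -1) ∨ (g y₀ 0 = -1 ∧ g y₀ 1 = 1 ∧ g y₀ 2 = 0) ∨
        (g y₀ 0 = 1 ∧ g y₀ 1 = 0 ∧ g y₀ 2 = -1) ∨ (g y₀ 0 = 0 ∧ g y₀ 1 = -1 ∧ g y₀ 2 = 1) := by omega
    rcases cases6 with h | h | h | h | h | h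
    · obtain ⟨y, hy, e0, e1, e2⟩ := key 0
      norm_num only at e0 e1 e2
      exact ⟨y, hy, by omega, by omega, by omega⟩
    · obtain ⟨y, hy, e0, e1, e2⟩ := key 2
      norm_num only at e0 e1 e2
      exact ⟨y, hy, by omega, by omega, by omega⟩
    · obtain ⟨y, hy, e0, e1, e2⟩ := key 1
      norm_num only at e0 e1 e2
      exact ⟨y, hy, by omega, by omega, by omega⟩
    · obtain ⟨y, hy, e0, e1, e2⟩ := key' 0
      norm_num only at e0 e1 e2
      exact ⟨y, hy, by omega, by omega, by omega⟩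
    · obtain ⟨y, hy, e0, e1, e2⟩ := key' 2
      norm_num only at e0 e1 e2
      exact ⟨y, hy, by omega, by omega, by omega⟩
    · obtain ⟨y, hy, e0, e1, e2⟩ := key' 1
      norm_num only at e0 e1 e2
      exact ⟨y, hy, by omega, by omega, by omega⟩
  -- the basis
  let u : I7 → Rt chevE7 := fun j => if j.val = 6 then β else emb67.f ((σ ^ j.val) y)
  let Cb : Matrix I7 I7 ℤ := Matrix.of fun m j => C.v (u j) m
  have hu6 : u (ix 6 (by omega)) = β := if_pos rfl
  have hu : ∀ j : I7, j.val ≠ 6 → u j = emb67.f ((σ ^ j.val) y) := fun j hj => if_neg hj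
  have hcol : ∀ j, Cb *ᵥ Pi.single j 1 = C.v (u j) := fun j => by
    rw [Matrix.mulVec_single_one]; rfl
  have hlt : ∀ j : I7, j.val < 7 := fun j => lt_of_lt_of_eq j.isLt (by decide +kernel)
  have hgv : ∀ k, g y k = gv k := by
    intro k
    have hm : ∀ n j, g y (j + 3 * n) = g y j := by
      intro n
      induction n with
      | zero => intro j; rfl
      | succ n ih => intro j; rw [show j + 3 * (n + 1) = (j + 3 * n) + 3 by omega, hper, ih]
    rw [← Nat.mod_add_div k 3, hm, gv]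
    have h3 : k % 3 = 0 ∨ k % 3 = 1 ∨ k % 3 = 2 := by omega
    rcases h3 with e | e | e <;> simp [e, hg0, hg1, hg2]
  have hbu : ∀ j : I7, j.val ≠ 6 → bil B (C.v (u j)) (C.v β) = gv j.val := fun j hj => by
    rw [hu j hj]; exact hgv j.val
  have hgram : Cbᵀ * B * Cb = G7 := by
    ext i j
    have e : (Cbᵀ * B * Cb) i j = bil B (C.v (u i)) (C.v (u j)) := by
      rw [Matrix.mul_assoc]; rfl
    rw [e, ← G7_table (i, j)]
    dsimp only
    split_ifs with hi hj hj hij
    · rw [(ix6_val i).1 hi, (ix6_val j).1 hj, hu6]; exact root_norm β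
    · rw [(ix6_val i).1 hi, hu6, bil_comm B SylowHom.E7.B_symm, hbu j hj]
    · rw [(ix6_val j).1 hj, hu6, hbu i hi]
    · have h := hy.bil_eq hσ (hlt i) (hlt j)
      rw [if_pos hij, v_pow RegTorusSix.C hσ, v_pow RegTorusSix.C hσ] at h
      rw [hu i hi, hu j hj, f_v, f_v, J_form_apply, h]
    · have h := hy.bil_eq hσ (hlt i) (hlt j)
      rw [if_neg hij, v_pow RegTorusSix.C hσ, v_pow RegTorusSix.C hσ] at h
      rw [hu i hi, hu j hj, f_v, f_v, J_form_apply, h]
  refine ⟨β, Cb, hβ, hgram, ?_, by rw [hcol, hu6]⟩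
  refine ext_mulVec fun j => ?_
  rw [← Matrix.mulVec_mulVec, ← Matrix.mulVec_mulVec, hcol, mat_mulVec C hπ]
  by_cases hj : j.val = 6
  · -- the image of β
    rw [(ix6_val j).1 hj, hu6]
    set w : I7 → ℤ := Pm7 *ᵥ Pi.single (ix 6 (by omega)) 1 with hw
    set d : I7 → ℤ := C.v (π β) - Cb *ᵥ w with hd
    have hπi : ∀ a b, bil B (C.v (π a)) (C.v (π b)) = bil B (C.v a) (C.v b) := fun a b => by
      rw [← mat_mulVec C hπ, ← mat_mulVec C hπ, bil_mulVec B (inv hπ)]
    have hd6 : d (ix 6 (by omega)) = 0 := by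
      have h1 : (Cb *ᵥ w) (ix 6 (by omega)) = 1 := by
        rw [show (Cb *ᵥ w) (ix 6 (by omega)) = ∑ k, C.v (u k) (ix 6 (by omega)) * w k from rfl,
          Finset.sum_eq_single (ix 6 (by omega))]
        · rw [hu6, hβ1, one_mul, hw]; exact Pm7_corner
        · intro k _ hk
          rw [hu k (fun e => hk ((ix6_val k).1 e)), f_last _ _ rfl, zero_mul]
        · simp
      rw [hd, Pi.sub_apply, hlast, hβ1, h1, sub_self]
    have hdy : ∀ j : I7, j.val ≠ 6 → bil B (C.v (u j)) d = 0 := by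
      intro j hj
      have hprev : bil B (C.v (u j)) (C.v (π β)) = gv (j.val + 2) := by
        have h3 : π (π (π β)) = β := by
          have := hβ
          rwa [pow_succ', pow_two, Equiv.Perm.mul_apply, Equiv.Perm.mul_apply] at this
        rw [← hπi, ← hπi, h3, hu j hj, hf, hf, ← Equiv.Perm.mul_apply, ← pow_two, ← Equiv.Perm.mul_apply,
          ← pow_add, add_comm 2]
        exact hgv _
      rw [hd, bil_sub_right, hprev, ← hcol, bil_gram hgram, hw, Pm7_last j hj, sub_self]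
    have horth : ∀ k < 6, bil B (C.v (emb67.f ((σ ^ k) y))) d = 0 := fun k hk => by
      have := hdy (ix k (by omega)) (by simp [ix]; omega)
      rwa [hu _ (by simp [ix]; omega)] at this
    have hd0 : d = 0 := by
      by_contra hne
      have h := norm_pos hne
      rw [bil] at h
      conv at h => rhs; arg 1; rw [J_restrict hd6]
      rw [← bil, orth_of_cyc hσ hy horth] at h
      exact lt_irrefl _ h
    exact sub_eq_zero.1 hd0
  · rw [hu j hj, hf, ← Equiv.Perm.mul_apply, ← pow_succ']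
    have hnext : ∀ (k : ℕ) (hk : k < 5),
        Pm7 *ᵥ Pi.single (ix k (by omega)) 1 = Pi.single (ix (k + 1) (by omega)) 1 := by
      intro k hk
      exact Pm7_next ⟨k, hk⟩
    rcases lt_or_eq_of_le (show j.val ≤ 5 by have := hlt j; omega) with h5 | h5
    · rw [show j = ix j.val (hlt j) from rfl, hnext _ h5, hcol, hu _ (by simp [ix]; omega)]
      rfl
    · rw [show j = ix 5 (by omega) from Fin.ext h5,
        Pm7_col5]
      simp only [Matrix.mulVec_add, Matrix.mulVec_sub, Matrix.mulVec_neg, hcol]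
      rw [hu _ (by simp [ix]), hu _ (by simp [ix]), hu _ (by simp [ix]), hu _ (by simp [ix])]
      simp only [f_v, ← Matrix.mulVec_neg, ← Matrix.mulVec_sub, ← Matrix.mulVec_add]
      exact congrArg (fun z => J *ᵥ z) (hrel6 y hy)

end Cfsg.Agent.Lib.ChevStructure.RegTorusSeven

end
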