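import Cfsg.Agent.Lib.ChevStructure.RegTorusSix.Lift

/-!
An element of Steinberg's group fixed by a field map has its image in the group over the fixed field.
-/

set_option autoImplicit false
set_option linter.unusedSectionVars false

namespace Cfsg.Agent.Lib.ChevStructure.RegTorusSeven.Descent

open Cfsg.Lie Cfsg.Agent.Lib.ChevStructure Cfsg.Agent.Lib.ChevFixed Cfsg.Agent.Lib.CurtisTits
open Cfsg.Agent.Lib.ChevStructure.RegTorusSix.Lift
open scoped MatrixGroups Matrix

universe u v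

variable {D D' : ChevalleyDatum} {C : Core D} {C' : Core D'} {T : Tree C} {T' : Tree C'}
variable {K : Type u} [Field K] {F : Type v} [Field F]

theorem fmap_fixed (f : F →+* K) (σ : K →+* K) (hσf : ∀ a, σ (f a) = f a) (x : D.SteinbergGroup F) :
    fmap σ D (fmap f D x) = fmap f D x := by
  refine DFunLike.congr_fun (?_ : (fmap σ D).comp (fmap f D) = fmap f D) x
  refine PresentedGroup.ext fun ⟨r, t⟩ => ?_
  have e : D.stGen F r.val t = PresentedGroup.of (r, t) := by
    simp [ChevalleyDatum.stGen, ChevalleyDatum.stX, PresentedGroup.of]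
  rw [← e, MonoidHom.comp_apply, fmap_gen, fmap_gen, hσf]

theorem mem_map_of_fixed (S : Ambient.{u} C T C' T') (cert0 : Cert.{v} C T) (H : CommOK C) (f : F →+* K)
    (σ : K →+* K) (hσf : ∀ a, σ (f a) = f a) (hfix : ∀ x, σ x = x → ∃ y, f y = x)
    {Y : D.SteinbergGroup K} (hY : fmap σ D Y = Y) :
    (stMap S.cert S.hs Y : GL D.Idx K) ∈ (D.group F).map (Matrix.GeneralLinearGroup.map f) := by
  set g : GL D.Idx K := (stMap S.cert S.hs Y : GL D.Idx K) with hgdef
  have hσg : Matrix.GeneralLinearGroup.map σ g = g := by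
    rw [hgdef, ← stMap_fmap σ S.cert S.cert, hY]
  have hU : ∀ u ∈ C.US K C.Pos, Matrix.GeneralLinearGroup.map σ u = u →
      ∃ U : D.SteinbergGroup F, (stMap S.cert S.hs (fmap f D U) : GL D.Idx K) = u := by
    intro u hu hfu
    obtain ⟨t, rfl⟩ := H.exists_posWord K hu
    rw [map_wordX] at hfu
    have ht := C.wordX_unique K C.posL_sorted (fun r hr => C.mem_posL.1 hr) hfu
    have key : ∀ l : List (Rt D), (∀ r ∈ l, σ (t r) = t r) →
        ∃ U : D.SteinbergGroup F, (stMap S.cert S.hs (fmap f D U) : GL D.Idx K) = C.wordX K l t := by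
      intro l
      induction l with
      | nil => exact fun _ => ⟨1, by simp [Core.wordX]⟩
      | cons r l ih =>
        intro hl
        obtain ⟨U, hU⟩ := ih fun s hs => hl s (List.mem_cons_of_mem r hs)
        obtain ⟨y, hy⟩ := hfix _ (hl r List.mem_cons_self)
        refine ⟨D.stGen F r.val y * U, ?_⟩
        rw [map_mul, map_mul, Subgroup.coe_mul, hU, fmap_gen, stMap_gen' S.cert S.hs, hy]
        simp [Core.wordX]
    exact key _ ht
  obtain ⟨L, b, hb, v, hv, hg⟩ := exists_form H (g := g) (Subtype.coe_prop _)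
  obtain ⟨u, hu, k, hk, rfl⟩ := C.mem_borel_iff.1 hb
  obtain ⟨c, rfl⟩ := C.mem_diagonal_iff.1 hk
  have hσ' := hσg
  rw [hg] at hσ'
  simp only [map_mul, map_wprod, map_HT] at hσ'
  set c' : Fin D.rank → Kˣ := fun j => Units.map σ.toMonoidHom (c j)
  have hu' : Matrix.GeneralLinearGroup.map σ u ∈ C.US K C.Pos := map_US_le C σ _ ⟨u, hu, rfl⟩
  have hv' : Matrix.GeneralLinearGroup.map σ v ∈ C.US K (C.inv' (C.pprod L)) :=
    map_US_le C σ _ ⟨v, hv, rfl⟩
  obtain ⟨e1, e2⟩ := form_unique L (mul_mem (C.posUS_le_borel hu')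
    (C.diagonal_le_borel (C.HT_mem_diagonal c'))) hb hv' hv hσ'
  have e3 : u⁻¹ * Matrix.GeneralLinearGroup.map σ u = C.HT K c * (C.HT K c')⁻¹ := by
    rw [eq_mul_inv_iff_mul_eq, mul_assoc, e1, inv_mul_cancel_left]
  have e4 : u⁻¹ * Matrix.GeneralLinearGroup.map σ u = 1 := by
    rw [← Subgroup.mem_bot, ← C.US_inf_diagonal]
    refine Subgroup.mem_inf.2 ⟨mul_mem (inv_mem hu) hu', ?_⟩
    rw [e3]
    exact mul_mem (C.HT_mem_diagonal c) (inv_mem (C.HT_mem_diagonal c'))
  obtain ⟨U, hUu⟩ := hU u hu (inv_mul_eq_one.1 e4).symm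
  obtain ⟨V, hVv⟩ := hU v (C.US_mono K (fun r hr => hr.1) hv) e2
  set W := (L.map (wSt C F)).prod with hW
  have hWw : (stMap S.cert S.hs (fmap f D W) : GL D.Idx K) = C.wprod K L := by
    have hl : ∀ L : List (Fin D.rank), (stMap cert0 S.hs (L.map (wSt C F)).prod : GL D.Idx F) = C.wprod F L := by
      intro L
      induction L with
      | nil => simp [Core.wprod]
      | cons i L ih => rw [List.map_cons, List.prod_cons, map_mul, Subgroup.coe_mul, ih, stMap_wSt, C.wprod_cons]
    rw [stMap_fmap f cert0 S.cert, hl, map_wprod]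
  set Y' := fmap f D U * torus S.cert S.hs c * fmap f D W * fmap f D V with hY'
  obtain ⟨d, hd⟩ := stMap_ker_torus S.cert S.hs (x := Y * Y'⁻¹) (by
    rw [map_mul, map_inv, mul_inv_eq_one]
    refine Subtype.ext ?_
    simp only [hY', map_mul, Subgroup.coe_mul, stMap_torus' S.cert S.hs, hUu, hVv, hWw]
    rw [← hgdef, hg])
  have hz : torus S.cert S.hs d ∈ Subgroup.center (D.SteinbergGroup K) := by
    rw [hd, ← stMap_ker S.cert S.hs, MonoidHom.mem_ker, map_mul, map_inv, mul_inv_eq_one]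
    refine Subtype.ext ?_
    simp only [hY', map_mul, Subgroup.coe_mul, stMap_torus' S.cert S.hs, hUu, hVv, hWw]
    rw [← hgdef, hg]
  have hYeq : Y = fmap f D U * torus S.cert S.hs (d * c) * fmap f D W * fmap f D V := by
    rw [map_mul, ← mul_assoc, Subgroup.mem_center_iff.1 hz, mul_assoc (torus S.cert S.hs d),
      mul_assoc (torus S.cert S.hs d), mul_assoc (torus S.cert S.hs d), ← hY', hd, inv_mul_cancel_right]
  have h2 := hY
  rw [hYeq] at h2
  simp only [map_mul, fmap_fixed f σ hσf] at h2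
  rw [← map_mul] at h2
  have h3 := mul_left_cancel (mul_right_cancel (mul_right_cancel h2))
  rw [← map_mul, fmap_torus σ S.cert S.cert S.hs] at h3
  have h4 := torus_inj S h3
  have hc : ∀ j, ∃ y : Fˣ, Units.map f.toMonoidHom y = (d * c) j := by
    intro j
    obtain ⟨y, hy⟩ := hfix ((d * c) j : K) (congrArg Units.val (congrFun h4 j))
    have hy0 : y ≠ 0 := fun h0 => ((d * c) j).ne_zero (by rw [← hy, h0, map_zero])
    exact ⟨Units.mk0 y hy0, Units.ext hy⟩
  choose c₀ hc₀ using hc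
  refine ⟨_, (stMap cert0 S.hs (U * torus cert0 S.hs c₀ * W * V)).2, ?_⟩
  rw [← stMap_fmap f cert0 S.cert, hgdef]
  conv_rhs => rw [hYeq]
  simp only [map_mul, fmap_torus f cert0 S.cert S.hs, funext hc₀]

end Cfsg.Agent.Lib.ChevStructure.RegTorusSeven.Descent
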