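import Cfsg.Agent.Lib.ChevStructure.RegTorusSeven.Norm
import Cfsg.Agent.Lib.ChevStructure.RegTorusSix.Coords
import Cfsg.Agent.Lib.CurtisTits.CenterE

/-! Type E₆ inside type E₇, and type E₇ inside type E₈. -/

set_option autoImplicit false
set_option maxRecDepth 100000
set_option linter.unusedSectionVars false

noncomputable section

namespace Cfsg.Agent.Lib.ChevStructure.RegTorusSeven

open Cfsg.Lie Cfsg.Agent.Lib.ChevStructure.RegTorus Cfsg.Agent.Lib.CurtisTits
open scoped Matrix

universe u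

local notation "I6" => Fin chevE6.rank

theorem rank67_le : chevE6.rank ≤ chevE7.rank := by decide +kernel

/-- The map of the roots of type E6 into those of type E7. -/
def tbl67 : List ℕ := [6,10,13,15,16,19,21,22,24,25,26,28,29,30,31,32,35,37,38,40,41,42,44,45,46,47,49,50,51,52,54,55,56,58,59,61,64,66,67,69,70,71,73,74,75,76,78,79,80,81,83,84,85,87,88,90,93,94,95,96,97,99,100,101,103,104,106,109,110,112,115,119]

theorem emb67_ok : embB Data.E6.fast Data.E7.fast tbl67 = true := by decide +kernel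

theorem nroots67 : 0 < chevE7.nroots := by decide +kernel

theorem emb67_p : ∀ i : I6, tblMap chevE6 chevE7 nroots67 tbl67 (RegTorusSix.C.p i) = C.p (Fin.castLE rank67_le i) := by
  decide +kernel

/-- Type E6 inside type E7. -/
def emb67 : CurtisTits.Embed RegTorusSix.C C :=
  mkEmbed Cert.E6.certified Cert.E7.certified CurtisTits.short_E6 CurtisTits.short_E7 nroots67 tbl67 emb67_ok
    (Fin.castLE rank67_le) (Fin.castLE_injective _) emb67_p

/-- the inclusion of the lattices -/
def J : Matrix I7 I6 ℤ := Matrix.of fun m k => if m.val = k.val then 1 else 0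

theorem J_form : Jᵀ * B * J = RegTorusSix.amat := by decide +kernel

theorem J_form_apply (a b : I6 → ℤ) : bil B (J *ᵥ a) (J *ᵥ b) = bil RegTorusSix.amat a b := by
  rw [bil, bil, ← J_form, ← Matrix.mulVec_mulVec, ← Matrix.mulVec_mulVec, Matrix.dotProduct_mulVec a Jᵀ,
    Matrix.vecMul_transpose]

theorem f_v_table : ∀ x : Rt chevE6, ∀ m : I7,
    vv (tblMap chevE6 chevE7 nroots67 tbl67 x).val m = (J *ᵥ RegTorusSix.vv x.val) m := by
  unfold Rt; decide +kernel

theorem f_v (x : Rt chevE6) : C.v (emb67.f x) = J *ᵥ RegTorusSix.C.v x := by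
  rw [v_eq, RegTorusSix.v_eq]
  exact funext (f_v_table x)

theorem f_last (x : Rt chevE6) (m : I7) (hm : m.val = 6) : C.v (emb67.f x) m = 0 := by
  rw [f_v, Matrix.mulVec, dotProduct]
  refine Finset.sum_eq_zero fun k _ => ?_
  have := k.isLt
  have h6 : chevE6.rank = 6 := RegTorusSix.rank_eq
  rw [J, Matrix.of_apply, if_neg (by omega), zero_mul]

theorem cartan67 : ∀ j i : I6,
    A chevE7 (Fin.castLE rank67_le j) (C.p (Fin.castLE rank67_le i)) = A chevE6 j (RegTorusSix.C.p i) := by
  decide +kernel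

theorem f_w (i : I6) (x : Rt chevE6) :
    emb67.f (RegTorusSix.C.w i x) = C.w (Fin.castLE rank67_le i) (emb67.f x) := by
  refine C.v_inj ?_
  have hA : A chevE7 (Fin.castLE rank67_le i) (emb67.f x) = A chevE6 i x := by
    rw [C.A_lin, RegTorusSix.C.A_lin, f_v]
    simp only [Matrix.mulVec, dotProduct, Finset.sum_mul]
    rw [Finset.sum_comm]
    refine Finset.sum_congr rfl fun k _ => ?_
    rw [Finset.sum_eq_single (Fin.castLE rank67_le k)]
    · rw [cartan67, J, Matrix.of_apply, if_pos (by simp), one_mul]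
    · intro m _ hm
      rw [J, Matrix.of_apply, if_neg (show ¬ m.val = k.val from fun h => hm (Fin.ext h)), zero_mul, zero_mul]
    · simp
  have hp : C.v (C.p (Fin.castLE rank67_le i)) = J *ᵥ RegTorusSix.C.v (RegTorusSix.C.p i) := by
    rw [← f_v, emb67.f_p]
    rfl
  rw [C.v_w, f_v, RegTorusSix.C.v_w, hA, ← C.v_p, hp, f_v, Matrix.mulVec_sub, Matrix.mulVec_smul, RegTorusSix.C.v_p]

theorem f_pprod : ∀ (L : List I6) (x : Rt chevE6),
    C.pprod (L.map (Fin.castLE rank67_le)) (emb67.f x) = emb67.f (RegTorusSix.C.pprod L x)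
  | [], x => rfl
  | i :: L, x => by
    rw [List.map_cons, C.pprod_cons, RegTorusSix.C.pprod_cons, Equiv.Perm.mul_apply, Equiv.Perm.mul_apply,
      f_pprod L x, C.sref_apply, RegTorusSix.C.sref_apply, f_w]

theorem embE7_cartan : ∀ j i, A chevE8 (Fin.castLE CurtisTits.rank_E7_le j)
    (Cert.E8.core.p (Fin.castLE CurtisTits.rank_E7_le i)) = A chevE7 j (C.p i) := by
  decide +kernel

/-- Type E₇ inside type E₈. -/
theorem ambient : RegTorusSix.Lift.Ambient.{u} C
    (CurtisTits.mkTree Cert.E7.core CurtisTits.Data.E7.words CurtisTits.CertE7.tree)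
    Cert.E8.core (CurtisTits.mkTree Cert.E8.core CurtisTits.Data.E8.words CurtisTits.CertE8.tree) where
  cert := CurtisTits.CertE7.cert
  hs := CurtisTits.suppOne_E7
  cert' := CurtisTits.CertE8.cert
  hs' := CurtisTits.suppOne_E8
  emb := ⟨CurtisTits.embE7, embE7_cartan⟩
  inv := ⟨CurtisTits.invE8, CurtisTits.invE8_ok⟩

end Cfsg.Agent.Lib.ChevStructure.RegTorusSeven

end
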