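import Cfsg.Agent.Lib.ChevStructure.RegTorusSeven.Model
import Cfsg.Agent.Lib.ChevStructure.RegTorusSix.Lift

/-!
The torus parameters fixed by the twisted map of a cyclic basis with the companion matrix of
(X⁴ - X² + 1)(X³ + 1).
-/

set_option autoImplicit false
set_option maxRecDepth 100000
set_option linter.unusedSectionVars false

noncomputable section

namespace Cfsg.Agent.Lib.ChevStructure.RegTorusSeven

open Cfsg.Lie Cfsg.Agent.Lib.ChevStructure.RegTorus Cfsg.Agent.Lib.ChevStructure.SylowHom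
open scoped Matrix

variable {G : Type*} [CommGroup G]

/-- an integer matrix acting on tuples in a commutative group -/
def mp (X : Matrix I7 I7 ℤ) (e : I7 → G) : I7 → G := fun i => ∏ j, e j ^ X i j

theorem mp_mul (X Y : Matrix I7 I7 ℤ) (e : I7 → G) : mp X (mp Y e) = mp (X * Y) e := by
  funext i
  rw [mp, mp]
  have h := CurtisTits.zpow_comb (fun k j => Y j k) e (fun j => X i j)
  simp only [mp] at h ⊢
  rw [h]
  refine Finset.prod_congr rfl fun k _ => congrArg (e k ^ ·) ?_
  rw [Matrix.mul_apply]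
  exact Finset.sum_congr rfl fun j _ => mul_comm _ _

theorem mp_one (e : I7 → G) : mp 1 e = e := by
  funext i
  rw [mp, Finset.prod_eq_single i (fun j _ hj => by rw [Matrix.one_apply_ne (Ne.symm hj), zpow_zero]) (by simp),
    Matrix.one_apply_eq, zpow_one]

theorem mp_zpow (X : Matrix I7 I7 ℤ) (z : G) (x : I7 → ℤ) :
    mp X (fun j => z ^ x j) = fun i => z ^ (X *ᵥ x) i := by
  funext i
  simp only [mp, Matrix.mulVec, dotProduct, ← zpow_mul]
  rw [C.zpow_fsum]
  exact Finset.prod_congr rfl fun j _ => congrArg (z ^ ·) (mul_comm _ _)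

theorem mp_pow (X : Matrix I7 I7 ℤ) (e : I7 → G) (n : ℕ) : mp X (e ^ n) = (mp X e) ^ n := by
  funext i
  simp only [mp, Pi.pow_apply]
  rw [← Finset.prod_pow]
  refine Finset.prod_congr rfl fun j _ => ?_
  rw [← zpow_natCast, ← zpow_natCast, ← zpow_mul, ← zpow_mul, mul_comm]

variable {K : Type*} [Field K]

theorem actL_eq : ∀ (L : List I7) (e : I7 → Kˣ),
    RegTorusSix.Lift.actL C L e = mp (mat C (C.pprod L)) e
  | [], e => by rw [C.pprod_nil, mat_one, mp_one]; rfl
  | i :: L, e => by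
    rw [RegTorusSix.Lift.actL, actL_eq L e, C.pprod_cons, mat_mul C (Subgroup.subset_closure ⟨i, rfl⟩), ← mp_mul]
    generalize mp (mat C (C.pprod L)) e = d
    funext m
    simp only [RegTorusSix.Lift.act, Pi.mul_apply, mp, mat_sref, srefMat, Matrix.of_apply, _root_.zpow_sub,
      Finset.prod_mul_distrib, Finset.prod_inv_distrib]
    congr 1
    · rw [Finset.prod_eq_single m (fun k _ hk => by rw [if_neg (Ne.symm hk), zpow_zero]) (by simp), if_pos rfl,
        zpow_one]
    · by_cases hm : m = i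
      · subst hm
        rw [Pi.mulSingle_eq_same]
        congr 1
        simp only [if_true, Core.chA, A_eq]
        exact Finset.prod_congr rfl fun k _ => congrArg (d k ^ ·) (congrFun (congrFun SylowHom.E7.B_symm m) k)
      · simp [hm]

theorem chA_zpow (z : Kˣ) (x : I7 → ℤ) (r : Rt chevE7) :
    C.chA (fun j => z ^ x j) r = z ^ bil B x (C.v r) := by
  simp only [Core.chA, ← zpow_mul]
  rw [bil, dotProduct, C.zpow_fsum]
  refine Finset.prod_congr rfl fun j _ => congrArg (z ^ ·) ?_
  rw [C.A_lin, Matrix.mulVec, dotProduct]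
  exact congrArg _ (Finset.sum_congr rfl fun k _ => by rw [A_eq]; ring)

theorem Gz_symm : Gzᵀ = Gz := by decide +kernel

theorem bil_Gz (q : ℤ) (w : I7 → ℤ) : Mq q ∣ bil Gz (xq q) w - k0 q * Pq q w := by
  rw [bil_comm Gz Gz_symm, bil, dotProduct, Pq, Finset.mul_sum, ← Finset.sum_sub_distrib]
  refine Finset.dvd_sum fun i _ => ?_
  have h := (Gz_xq q i).mul_left (w i)
  convert h using 1
  ring

theorem Pq_sub (q : ℤ) (a b : I7 → ℤ) : Pq q (a - b) = Pq q a - Pq q b := by
  simp [Pq, sub_mul, Finset.sum_sub_distrib]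

theorem Pq_single (q : ℤ) : Pq q (Pi.single (ix 0 (by omega)) 1) = 1 := by
  simp [Pq, Pi.single_apply, ix]

theorem Gz_first : bil Gz (Pi.single (ix 0 (by omega)) 1) (Pi.single (ix 0 (by omega)) 1) = 2 := by
  decide +kernel

/-- Tuples fixed by q times the companion matrix are powers of the fixed vector. -/
theorem fixed_eq {q : ℕ} {u : I7 → G} (h : mp comp7 (u ^ q) = u) :
    u (ix 6 (by omega)) ^ Mq q = 1 ∧ u = fun i => u (ix 6 (by omega)) ^ xq q i := by
  set t := u (ix 6 (by omega)) with ht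
  have hu : ∀ i, ∏ j, (u j ^ (q : ℤ)) ^ comp7 i j = u i := fun i => by
    simpa [mp, zpow_natCast] using congrFun h i
  have r0 := hu (ix 0 (by omega))
  have r1 := hu (ix 1 (by omega))
  have r2 := hu (ix 2 (by omega))
  have r3 := hu (ix 3 (by omega))
  have r4 := hu (ix 4 (by omega))
  have r5 := hu (ix 5 (by omega))
  have r6 := hu (ix 6 (by omega))
  have h7 : ∀ f : I7 → G, ∏ i, f i = f (ix 0 (by omega)) * f (ix 1 (by omega)) * f (ix 2 (by omega)) *
      f (ix 3 (by omega)) * f (ix 4 (by omega)) * f (ix 5 (by omega)) * f (ix 6 (by omega)) := fun f =>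
    Fin.prod_univ_seven (f : Fin 7 → G)
  simp [h7, comp7, mat7, SylowHom.E7.matE, ix] at r0 r1 r2 r3 r4 r5 r6 ht
  simp only [← zpow_natCast, ← ht] at r0 r1 r2 r3 r4 r5 r6
  have e0 : u (ix 0 (by omega)) = t ^ xq q (ix 0 (by omega)) := by
    refine r0.symm.trans ?_
    simp [xq, ix]
  have e1 : u (ix 1 (by omega)) = t ^ xq q (ix 1 (by omega)) := by
    refine r1.symm.trans ?_
    rw [show u ⟨0, _⟩ = _ from e0]
    simp only [← zpow_neg, ← zpow_mul, ← zpow_add]
    congr 1
    simp [xq, ix]; ring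
  have e2 : u (ix 2 (by omega)) = t ^ xq q (ix 2 (by omega)) := by
    refine r2.symm.trans ?_
    rw [show u ⟨1, _⟩ = _ from e1]
    simp only [← zpow_neg, ← zpow_mul, ← zpow_add]
    congr 1
    simp [xq, ix]; ring
  have e3 : u (ix 3 (by omega)) = t ^ xq q (ix 3 (by omega)) := by
    refine r3.symm.trans ?_
    rw [show u ⟨2, _⟩ = _ from e2]
    simp only [← zpow_neg, ← zpow_mul, ← zpow_add]
    congr 1
    simp [xq, ix]; ring
  have e4 : u (ix 4 (by omega)) = t ^ xq q (ix 4 (by omega)) := by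
    refine r4.symm.trans ?_
    rw [show u ⟨3, _⟩ = _ from e3]
    simp only [← zpow_neg, ← zpow_mul, ← zpow_add]
    congr 1
    simp [xq, ix]; ring
  have e5 : u (ix 5 (by omega)) = t ^ xq q (ix 5 (by omega)) := by
    refine r5.symm.trans ?_
    rw [show u ⟨4, _⟩ = _ from e4]
    simp only [← zpow_neg, ← zpow_mul, ← zpow_add]
    congr 1
    simp [xq, ix]; ring
  refine ⟨?_, funext fun i => ?_⟩
  · rw [show u ⟨5, _⟩ = _ from e5] at r6
    rw [← zpow_mul] at r6
    rw [show Mq (q : ℤ) = 1 - xq q (ix 5 (by omega)) * q by simp [Mq, xq, ix]; ring, _root_.zpow_sub, zpow_one,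
      r6, mul_inv_cancel]
  · rcases ix_cases i with rfl | rfl | rfl | rfl | rfl | rfl | rfl
    exacts [e0, e1, e2, e3, e4, e5, by simp [xq, ix, ht]]

end Cfsg.Agent.Lib.ChevStructure.RegTorusSeven

end
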