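import Cfsg.Agent.Lib.ChevStructure.RegTorusSeven.Twist
import Cfsg.Agent.Lib.ChevStructure.RegTorusSeven.Param
import Cfsg.Agent.Lib.ChevStructure.RegTorusSeven.Descent
import Mathlib.RingTheory.RootsOfUnity.AlgebraicallyClosed

/-!
E₇(q) has a self-centralising cyclic subgroup of order (q⁴ - q² + 1)(q³ + 1)/gcd(2, q - 1).
-/

set_option autoImplicit false
set_option maxRecDepth 100000
set_option linter.unusedSectionVars false

noncomputable section

namespace Cfsg.Agent.Lib.ChevStructure.RegTorusSeven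

open Cfsg.Lie Cfsg.Agent.Lib.ChevStructure.RegTorus Cfsg.Agent.Lib.ChevStructure.SylowHom
open Cfsg.Agent.Lib.CurtisTits (stMap torus stMap_surj stMap_ker_torus)
open scoped Matrix MatrixGroups

universe u

/-- the order (q⁴ - q² + 1)(q³ + 1) -/
def Mn (q : ℕ) : ℕ := (q ^ 4 - q ^ 2 + 1) * (q ^ 3 + 1)

theorem Mn_cast (q : ℕ) (hq : 1 ≤ q) : ((Mn q : ℕ) : ℤ) = Mq q := by
  have h : q ^ 2 ≤ q ^ 4 := Nat.pow_le_pow_right hq (by norm_num)
  rw [Mn, Nat.cast_mul, Nat.cast_add, Nat.cast_sub h, Mq]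
  push_cast
  ring

theorem gcd_k0 {q : ℕ} (hq : 2 ≤ q) : Int.gcd (k0 q) (Mn q : ℤ) = Nat.gcd 2 (q - 1) := by
  rw [Mn_cast q (by omega)]
  set G := Int.gcd (k0 (q : ℤ)) (Mq (q : ℤ))
  have h2 : (G : ℤ) ∣ 2 := by
    rw [← two_bezout (q : ℤ)]
    exact dvd_add (dvd_mul_of_dvd_right (Int.gcd_dvd_left _ _) _) (dvd_mul_of_dvd_right (Int.gcd_dvd_right _ _) _)
  have hM : (2 : ℤ) ∣ Mq (q : ℤ) ↔ q % 2 = 1 := by
    show ((2 : ℕ) : ℤ) ∣ _ ↔ _
    rw [← ZMod.intCast_zmod_eq_zero_iff_dvd]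
    simp only [Mq]
    push_cast
    rw [← ZMod.natCast_mod q 2]
    rcases Nat.mod_two_eq_zero_or_one q with e | e <;> rw [e] <;> decide
  rcases Nat.mod_two_eq_zero_or_one q with e | e
  · have hg : Nat.gcd 2 (q - 1) = 1 :=
      Nat.Prime.coprime_iff_not_dvd Nat.prime_two |>.2 fun h => by omega
    rw [hg]
    rcases (Nat.dvd_prime Nat.prime_two).1 (by exact_mod_cast h2 : G ∣ 2) with h | h
    · exact h
    · exfalso
      have : (2 : ℤ) ∣ Mq (q : ℤ) := by
        have := Int.gcd_dvd_right (k0 (q : ℤ)) (Mq (q : ℤ))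
        rw [show Int.gcd (k0 (q : ℤ)) (Mq (q : ℤ)) = 2 from h] at this
        exact this
      omega
  · rw [Nat.gcd_eq_left (by omega : 2 ∣ q - 1)]
    have h3 : (2 : ℕ) ∣ G := Int.natCast_dvd_natCast.1 (Int.dvd_coe_gcd (k0_even _) (hM.2 e))
    exact Nat.dvd_antisymm (by exact_mod_cast h2) h3

theorem exists_cyclic {F : Type u} [Field F] [Fintype F] {q : ℕ} (hF : Fintype.card F = q) :
    ∃ H : Subgroup ↥(chevE7.group F), IsCyclic ↥H ∧
      Nat.card ↥H = (q ^ 4 - q ^ 2 + 1) * (q ^ 3 + 1) / Nat.gcd 2 (q - 1) ∧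
      Subgroup.centralizer (H : Set ↥(chevE7.group F)) = H := by
  classical
  have hq1 : 1 < q := hF ▸ Fintype.one_lt_card
  obtain ⟨p, hp⟩ := CharP.exists F
  obtain ⟨n, hpp, hcard⟩ := FiniteField.card F p
  have : Fact p.Prime := ⟨hpp⟩
  let Ω := AlgebraicClosure F
  let f := algebraMap F Ω
  have : CharP Ω p := charP_of_injective_algebraMap f.injective p
  let τ : Ω →+* Ω := iterateFrobenius Ω p n
  have hτ : ∀ x, τ x = x ^ q := fun x => by
    rw [← hF, hcard]; exact iterateFrobenius_def p n x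
  have hτf : ∀ a, τ (f a) = f a := fun a => by rw [hτ, ← map_pow, ← hF, FiniteField.pow_card]
  have hfix : ∀ x : Ω, τ x = x → ∃ a : F, f a = x := by
    intro x hx
    by_contra hne
    push Not at hne
    have hdeg : (Polynomial.X ^ q - Polynomial.X : Polynomial Ω).natDegree = q :=
      FiniteField.X_pow_card_sub_X_natDegree_eq Ω hq1
    have hP : (Polynomial.X ^ q - Polynomial.X : Polynomial Ω) ≠ 0 := fun h => by
      rw [h, Polynomial.natDegree_zero] at hdeg; omega
    have hsub : insert x (Finset.univ.image f) ⊆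
        (Polynomial.X ^ q - Polynomial.X : Polynomial Ω).roots.toFinset := by
      intro y hy
      have hy' : y ^ q = y := by
        rw [← hτ]
        rcases Finset.mem_insert.1 hy with rfl | hy
        · exact hx
        · obtain ⟨a, -, rfl⟩ := Finset.mem_image.1 hy; exact hτf a
      rw [Multiset.mem_toFinset, Polynomial.mem_roots hP]
      simp [hy']
    have h1 := (Finset.card_le_card hsub).trans ((Multiset.toFinset_card_le _).trans (Polynomial.card_roots' _))
    rw [Finset.card_insert_of_notMem (by simpa [f] using hne),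
      Finset.card_image_of_injective _ f.injective, Finset.card_univ, hF, hdeg] at h1
    omega
  obtain ⟨r, S⟩ := RegTorusSix.exists_prm (show 2 ≤ q by omega)
  obtain ⟨g, hg, e1, L, hn, Cy, Cyi, hi1, hi2, hgram, hshift⟩ := exists_twist_seven hF S Ω τ hτ
  set π := C.pprod L with hπdef
  have hπ : π ∈ C.WG := C.pprod_mem_WG L
  -- a root of unity of order M
  set M := Mn q with hMdef
  have hMz : (M : ℤ) = Mq q := Mn_cast q (by omega)
  have hq0 : (q : Ω) = 0 := by
    rw [← hF, hcard, Nat.cast_pow, CharP.cast_eq_zero, zero_pow n.pos.ne']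
  have : NeZero (M : Ω) := ⟨by
    have h : ((M : ℤ) : Ω) = ((Mq (q : ℤ) : ℤ) : Ω) := congrArg _ hMz
    rw [Int.cast_natCast] at h
    rw [h]
    simp [Mq, hq0]⟩
  have : NeZero M := NeZero.of_neZero_natCast Ω
  obtain ⟨ζ, hζ⟩ := HasEnoughRootsOfUnity.exists_primitiveRoot Ω M
  set z : Ωˣ := (hζ.isUnit (NeZero.ne M)).unit with hz
  have hzp : IsPrimitiveRoot z M := IsPrimitiveRoot.coe_units_iff.1 (by rw [hz, IsUnit.unit_spec]; exact hζ)
  have hzi : ∀ a b : ℤ, (M : ℤ) ∣ a - b → z ^ a = z ^ b := fun a b h => by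
    rw [← mul_inv_eq_one, ← _root_.zpow_sub]
    exact (hzp.zpow_eq_one_iff_dvd _).2 h
  -- the parameters
  set X : I7 → ℤ := Cy *ᵥ xq q with hX
  set c : I7 → Ωˣ := fun j => z ^ X j with hc
  have hτu : ∀ e : I7 → Ωˣ, (fun j => Units.map τ.toMonoidHom (e j)) = e ^ q := fun e =>
    funext fun j => Units.ext (hτ _)
  have hfixc : RegTorusSix.Lift.actL C L (c ^ q) = c := by
    rw [actL_eq, ← hπdef, show c ^ q = fun j => z ^ ((q : ℤ) • X) j from funext fun j => by
      simp only [Pi.pow_apply, hc, Pi.smul_apply, smul_eq_mul]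
      rw [← zpow_natCast, ← zpow_mul, mul_comm], mp_zpow]
    funext i
    refine hzi _ _ ?_
    rw [hX, Matrix.mulVec_smul, Matrix.mulVec_mulVec, hshift, ← Matrix.mulVec_mulVec, ← Matrix.mulVec_smul,
      comp7_xq, Matrix.mulVec_sub, Matrix.mulVec_smul, ← hMz]
    simp
  -- the values at roots
  have hval : ∀ x : Rt chevE7, ∃ w : I7 → ℤ, bil Gz w w = 2 ∧ C.v x = Cy *ᵥ w ∧
      C.chA c x = z ^ (k0 q * Pq q w) := by
    intro x
    have hb : ∀ a b, bil B (Cy *ᵥ a) (Cy *ᵥ b) = bil Gz a b := fun a b => by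
      rw [bil, bil, ← hgram, ← Matrix.mulVec_mulVec, ← Matrix.mulVec_mulVec, Matrix.dotProduct_mulVec a Cyᵀ,
        Matrix.vecMul_transpose]
    have hw : C.v x = Cy *ᵥ (Cyi *ᵥ C.v x) := by rw [Matrix.mulVec_mulVec, hi1, Matrix.one_mulVec]
    refine ⟨Cyi *ᵥ C.v x, by rw [← hb, ← hw, root_norm], hw, ?_⟩
    rw [hc, chA_zpow, hX]
    conv_lhs => rw [hw]
    rw [hb]
    exact hzi _ _ (hMz ▸ bil_Gz q _)
  have hroot : ∀ w, bil Gz w w = 2 → ∃ x : Rt chevE7, C.v x = Cy *ᵥ w := fun w hw =>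
    exists_root (by
      rw [bil, ← hw, bil, ← hgram, ← Matrix.mulVec_mulVec, ← Matrix.mulVec_mulVec, Matrix.dotProduct_mulVec w Cyᵀ,
        Matrix.vecMul_transpose])
  -- divisibility by the order
  set gd := Nat.gcd 2 (q - 1) with hgd
  have hgcd := gcd_k0 (q := q) (by omega)
  have hk : ∀ a : ℤ, (M : ℤ) ∣ k0 q * a → (M : ℤ) ∣ (gd : ℤ) * a := fun a ha => by
    have hb := Int.gcd_eq_gcd_ab (k0 (q : ℤ)) (M : ℤ)
    rw [hgcd] at hb
    rw [hgd, hb, add_mul]
    exact dvd_add (by rw [mul_right_comm]; exact dvd_mul_of_dvd_left ha _) (dvd_mul_of_dvd_left (dvd_mul_right _ _) _)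
  have hreg : ∀ x, C.chA c x ≠ 1 := by
    intro x hx
    obtain ⟨w, hw, -, hxw⟩ := hval x
    rw [hxw, hzp.zpow_eq_one_iff_dvd] at hx
    exact (separation (q := q) (by omega) hw).1 (hMz ▸ hk _ hx)
  have hstab : ∀ σ ∈ C.WG, (∀ x, C.chA c (σ x) = C.chA c x) → σ = 1 := by
    intro σ hσ h
    refine eq_one_of_mat C hσ ?_
    have hfixcol : mat C σ * (Cy * Sb) = Cy * Sb := by
      refine ext_mulVec fun i => ?_
      have hcol : (Cy * Sb) *ᵥ Pi.single i 1 = Cy *ᵥ fun m => Sb m i := by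
        rw [← Matrix.mulVec_mulVec, Matrix.mulVec_single_one]; rfl
      obtain ⟨x, hx⟩ := hroot _ (Sb_norm i)
      rw [← Matrix.mulVec_mulVec, hcol, ← hx, mat_mulVec C hσ]
      obtain ⟨w, hw, hxw, hcw⟩ := hval (σ x)
      obtain ⟨w0, -, hxw0, hcw0⟩ := hval x
      have hw0 : w0 = fun m => Sb m i := by
        have := congrArg (Cyi *ᵥ ·) (hxw0.symm.trans hx)
        simpa only [Matrix.mulVec_mulVec, hi2, Matrix.one_mulVec] using this
      have e := h x
      rw [hcw, hcw0, ← mul_inv_eq_one, ← _root_.zpow_sub, hzp.zpow_eq_one_iff_dvd, ← mul_sub, ← Pq_sub,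
        hw0] at e
      rw [hxw, (separation (q := q) (by omega) hw).2 i (hMz ▸ hk _ e), hx]
    have := congrArg (· * (Sbi * Cyi)) hfixcol
    simpa only [Matrix.mul_assoc, ← Matrix.mul_assoc Sb Sbi, Sb_mul, Matrix.one_mul, hi1, Matrix.mul_one] using this
  -- descent
  obtain ⟨gt, hgt⟩ := stMap_surj CurtisTits.CertE7.cert CurtisTits.suppOne_E7 (⟨g, hg⟩ : ↥(chevE7.group Ω))
  have hgt' : (stMap CurtisTits.CertE7.cert CurtisTits.suppOne_E7 gt : GL chevE7.Idx Ω) = g :=
    congrArg Subtype.val hgt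
  set tc := torus CurtisTits.CertE7.cert CurtisTits.suppOne_E7 c with htc
  have hYfix : RegTorusSix.Lift.fmap τ chevE7 (gt * tc * gt⁻¹) = gt * tc * gt⁻¹ := by
    set nt := gt⁻¹ * RegTorusSix.Lift.fmap τ chevE7 gt with hnt
    set wt := (L.map (RegTorusSix.Lift.wSt C Ω)).prod with hwt
    have hwl : ∀ L : List I7, (stMap CurtisTits.CertE7.cert CurtisTits.suppOne_E7
        (L.map (RegTorusSix.Lift.wSt C Ω)).prod : GL chevE7.Idx Ω) = C.wprod Ω L := by
      intro L
      induction L with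
      | nil => simp [Core.wprod]
      | cons i L ih =>
        rw [List.map_cons, List.prod_cons, map_mul, Subgroup.coe_mul, ih, RegTorusSix.Lift.stMap_wSt, C.wprod_cons]
    obtain ⟨d, hd⟩ := stMap_ker_torus CurtisTits.CertE7.cert CurtisTits.suppOne_E7
      (x := nt * (torus CurtisTits.CertE7.cert CurtisTits.suppOne_E7 e1 * wt)⁻¹) (by
        rw [map_mul, map_inv, mul_inv_eq_one]
        refine Subtype.ext ?_
        rw [hnt, hwt, map_mul, map_mul, map_inv, Subgroup.coe_mul, Subgroup.coe_mul, Subgroup.coe_inv,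
          RegTorusSix.Lift.stMap_fmap τ CurtisTits.CertE7.cert CurtisTits.CertE7.cert, hgt', hn,
          RegTorusSix.Lift.stMap_torus', hwl])
    have hnt' : nt = torus CurtisTits.CertE7.cert CurtisTits.suppOne_E7 (d * e1) * wt := by
      rw [map_mul, hd, mul_assoc, inv_mul_cancel_right]
    have hfg : RegTorusSix.Lift.fmap τ chevE7 gt = gt * nt := by rw [hnt, mul_inv_cancel_left]
    rw [map_mul, map_mul, map_inv, hfg, htc,
      RegTorusSix.Lift.fmap_torus τ CurtisTits.CertE7.cert CurtisTits.CertE7.cert CurtisTits.suppOne_E7, hτu,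
      mul_inv_rev]
    have h1 : nt * torus CurtisTits.CertE7.cert CurtisTits.suppOne_E7 (c ^ q) =
        torus CurtisTits.CertE7.cert CurtisTits.suppOne_E7 c * nt := by
      rw [hnt', mul_assoc, hwt, RegTorusSix.Lift.wL_torus ambient, hfixc, ← mul_assoc, ← map_mul, mul_comm _ c,
        map_mul, mul_assoc]
    calc gt * nt * torus CurtisTits.CertE7.cert CurtisTits.suppOne_E7 (c ^ q) * (nt⁻¹ * gt⁻¹)
        = gt * (nt * torus CurtisTits.CertE7.cert CurtisTits.suppOne_E7 (c ^ q) * nt⁻¹) * gt⁻¹ := by group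
      _ = _ := by rw [h1, mul_inv_cancel_right]
  obtain ⟨y0, hy0, hy0e⟩ := Descent.mem_map_of_fixed ambient CurtisTits.CertE7.cert commOK f τ hτf hfix hYfix
  set y1 : ↥(chevE7.group F) := ⟨y0, hy0⟩ with hy1
  let mg := Matrix.GeneralLinearGroup.map (n := chevE7.Idx) f
  have hmginj : Function.Injective mg := ChevFixed.map_injective (f := f) f.injective
  have hy1e : mg (y1 : GL chevE7.Idx F) = g * C.HT Ω c * g⁻¹ := by
    refine hy0e.trans ?_
    simp only [map_mul, map_inv, Subgroup.coe_mul, Subgroup.coe_inv, hgt', htc, RegTorusSix.Lift.stMap_torus']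
  -- the order
  set k0n := q ^ 6 - q with hk0n
  have hk0z : (k0n : ℤ) = k0 q := by
    rw [hk0n, Nat.cast_sub (Nat.le_self_pow (by norm_num) q), k0]
    push_cast
    rfl
  have hord : orderOf y1 = M / gd := by
    rw [← Subgroup.orderOf_coe, ← orderOf_injective mg hmginj, hy1e,
      show g * C.HT Ω c * g⁻¹ = MulAut.conj g (C.HT Ω c) from rfl, MulEquiv.orderOf_eq]
    have h1 : orderOf (C.HT Ω c) = orderOf (z ^ k0n) := by
      refine orderOf_eq_orderOf_iff.2 fun m => ?_
      rw [show C.HT Ω c ^ m = C.HT Ω (c ^ m) from (map_pow (C.HThom Ω) c m).symm, ← C.HT_one Ω]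
      have hpow : ∀ x, C.chA (c ^ m) x = C.chA c x ^ m := fun x => by
        simp only [Core.chA, Pi.pow_apply, ← zpow_natCast, ← Finset.prod_zpow, ← zpow_mul, mul_comm]
      have hch1 : ∀ x, C.chA (1 : I7 → Ωˣ) x = 1 := fun x => by simp [Core.chA]
      constructor
      · intro h
        obtain ⟨x, hx⟩ := hroot _ Gz_first
        obtain ⟨w, -, hxw, hcw⟩ := hval x
        have hw : w = Pi.single (ix 0 (by omega)) 1 := by
          have := congrArg (Cyi *ᵥ ·) (hxw.symm.trans hx)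
          simpa only [Matrix.mulVec_mulVec, hi2, Matrix.one_mulVec] using this
        have h2 := congrFun (C.diag_inj Ω h) x
        change C.chA (c ^ m) x = C.chA 1 x at h2
        rw [hpow, hch1, hcw, hw, Pq_single, mul_one, ← hk0z, zpow_natCast] at h2
        exact h2
      · intro h
        refine RegTorus.HT_ext fun j => ?_
        obtain ⟨w, -, -, hcw⟩ := hval (C.p j)
        rw [hpow, hch1, hcw, ← hk0z, zpow_mul, zpow_natCast]
        rw [← zpow_natCast _ m, ← zpow_mul, mul_comm, zpow_mul, zpow_natCast, h, one_zpow]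
    rw [h1, orderOf_pow' z (by rw [hk0n]; exact Nat.sub_ne_zero_of_lt (lt_self_pow₀ hq1 (by norm_num))),
      ← hzp.eq_orderOf]
    congr 1
    rw [hgd, ← hgcd, ← hk0z, Int.gcd_natCast_natCast, Nat.gcd_comm]
  refine ⟨Subgroup.zpowers y1, inferInstance, by rw [Nat.card_zpowers, hord]; rfl, ?_⟩
  refine le_antisymm (fun y hy => ?_) (fun y hy => ?_)
  · -- the centraliser
    have hcy : y1 * y = y * y1 := Subgroup.mem_centralizer_iff.1 hy y1 (Subgroup.mem_zpowers y1)
    set Y := g⁻¹ * mg (y : GL chevE7.Idx F) * g with hY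
    have hYG : Y ∈ chevE7.group Ω :=
      mul_mem (mul_mem (inv_mem hg) (ChevFixed.map_group_le C f ⟨_, y.2, rfl⟩)) hg
    have hcm : Commute Y (C.HT Ω c) := by
      have h1 : mg (y1 : GL chevE7.Idx F) * mg (y : GL chevE7.Idx F) =
          mg (y : GL chevE7.Idx F) * mg (y1 : GL chevE7.Idx F) := by
        rw [← map_mul, ← map_mul]
        exact congrArg mg (congrArg Subtype.val hcy)
      rw [hy1e] at h1
      show _ = _
      calc Y * C.HT Ω c = g⁻¹ * (mg (y : GL chevE7.Idx F) * (g * C.HT Ω c * g⁻¹)) * g := by rw [hY]; group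
        _ = g⁻¹ * (g * C.HT Ω c * g⁻¹ * mg (y : GL chevE7.Idx F)) * g := by rw [h1]
        _ = _ := by rw [hY]; group
    obtain ⟨e, he⟩ := G2Torus.Regular.exists_HT_of_commute_stab commOK hreg hstab hYG hcm
    obtain ⟨e', he', hact⟩ := RegTorusSix.Lift.exact_twist (C := C) ambient CurtisTits.CertE7.cert f τ hτf hg y.2 he hn
    rw [hτu, actL_eq, ← hπdef] at hact
    -- coordinates in the cyclic basis
    set u := mp Cyi e' with hu
    have hue : mp Cy u = e' := by rw [hu, mp_mul, hi1, mp_one]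
    have hfu : mp comp7 (u ^ q) = u := by
      rw [← mp_pow, mp_mul, ← show Cyi * mat C π = comp7 * Cyi from ?_, ← mp_mul, hact, hu]
      calc Cyi * mat C π = Cyi * (mat C π * Cy) * Cyi := by rw [Matrix.mul_assoc, Matrix.mul_assoc, hi1, Matrix.mul_one]
        _ = _ := by rw [hshift, ← Matrix.mul_assoc, hi2, Matrix.one_mul]
    obtain ⟨hM1, hux⟩ := fixed_eq hfu
    set t := u (ix 6 (by omega))
    rw [← hMz, zpow_natCast] at hM1
    obtain ⟨k, -, hk'⟩ := hζ.eq_pow_of_pow_eq_one (ξ := (t : Ω)) (by rw [← Units.val_pow_eq_pow_val, hM1, Units.val_one])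
    have htz : t = z ^ k := Units.ext (by rw [Units.val_pow_eq_pow_val, hz, IsUnit.unit_spec, hk'])
    have hck : e' = c ^ k := by
      rw [← hue, hux, htz, mp_zpow]
      funext i
      rw [Pi.pow_apply, hc, hX, ← zpow_natCast, ← zpow_natCast, ← zpow_mul, ← zpow_mul, mul_comm]
    refine ⟨(k : ℤ), Subtype.ext (hmginj ?_)⟩
    show mg ((y1 ^ (k : ℤ) : ↥(chevE7.group F)) : GL chevE7.Idx F) = _
    rw [zpow_natCast, SubmonoidClass.coe_pow, map_pow, hy1e, conj_pow,
      show C.HT Ω c ^ k = C.HT Ω (c ^ k) from (map_pow (C.HThom Ω) c k).symm, ← hck, he', ← he, hY]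
    group
  · rw [Subgroup.mem_centralizer_iff]
    intro y' hy'
    obtain ⟨i, rfl⟩ := hy
    obtain ⟨j, rfl⟩ := hy'
    exact ((Commute.refl y1).zpow_zpow j i).eq

end Cfsg.Agent.Lib.ChevStructure.RegTorusSeven

end
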