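import Cfsg.Agent.Lib.ChevStructure.SylowHom.Special
import Cfsg.Agent.Lib.ChevStructure.Height

/-! In the root lattice of type E7 the vectors of norm two are the roots. -/

set_option autoImplicit false
set_option maxRecDepth 100000
set_option linter.unusedSectionVars false

namespace Cfsg.Agent.Lib.ChevStructure.RegTorusSeven

open Cfsg.Lie Cfsg.Agent.Lib.ChevStructure.RegTorus Cfsg.Agent.Lib.ChevStructure.SylowHom
open scoped Matrix

/-- the index type -/
abbrev I7 := Fin chevE7.rank

/-- the core -/
noncomputable abbrev C : Core chevE7 := Cert.E7.core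

/-- the form -/
noncomputable abbrev B : Matrix I7 I7 ℤ := SylowHom.E7.B

/-- coordinates of a root -/
noncomputable def vv (r : ℕ) : I7 → ℤ := fun m => Data.E7.fast.v r m

theorem v_eq (x : Rt chevE7) : C.v x = vv x.val := rfl

theorem A_eq (j k : I7) : A chevE7 j (C.p k) = B j k := SylowHom.E7.a_eq j k

theorem inv {σ : Equiv.Perm (Rt chevE7)} (hσ : σ ∈ C.WG) : (mat C σ)ᵀ * B * mat C σ = B :=
  mat_invariant C B SylowHom.E7.a_eq SylowHom.E7.refl_inv hσ

theorem diag_two : ∀ i, B i i = 2 := by decide +kernel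

theorem off_table : ∀ p : I7 × I7, p.1 = p.2 ∨ (B p.1 p.2 ≤ 0) := by decide +kernel

theorem off_nonpos (i j : I7) (h : i ≠ j) : B i j ≤ 0 := (off_table (i, j)).resolve_left h

theorem norm_pos {u : I7 → ℤ} (hu : u ≠ 0) : 0 < bil B u u :=
  bil_pos B (by norm_num) (by norm_num) SylowHom.E7.B'_mul SylowHom.E7.L_pos SylowHom.E7.squares hu

theorem norm_even (u : I7 → ℤ) : (2 : ℤ) ∣ bil B u u :=
  (ZMod.intCast_zmod_eq_zero_iff_dvd _ 2).1 (by rw [bil_cast]; exact SylowHom.E7.even _)

theorem pos_or_neg {v : I7 → ℤ} (hv : bil B v v = 2) : (∀ i, 0 ≤ v i) ∨ (∀ i, v i ≤ 0) := by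
  by_contra h
  rw [not_or, not_forall, not_forall] at h
  obtain ⟨⟨i, hi⟩, ⟨j, hj⟩⟩ := h
  rw [not_le] at hi hj
  set p : I7 → ℤ := fun k => max (v k) 0
  set n : I7 → ℤ := fun k => max (- v k) 0
  have hpn : v = p - n := funext fun k => by simp only [p, n, Pi.sub_apply]; omega
  have hcross : bil B p n ≤ 0 := by
    rw [bil, dotProduct]
    refine Finset.sum_nonpos fun a _ => ?_
    rw [Matrix.mulVec, dotProduct, Finset.mul_sum]
    refine Finset.sum_nonpos fun b _ => ?_
    have hp0 : 0 ≤ p a := le_max_right _ _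
    have hn0 : 0 ≤ n b := le_max_right _ _
    by_cases hab : a = b
    · subst hab
      have : p a = 0 ∨ n a = 0 := by simp only [p, n]; omega
      rcases this with e | e <;> rw [e] <;> simp
    · exact mul_nonpos_of_nonneg_of_nonpos hp0 (mul_nonpos_of_nonpos_of_nonneg (off_nonpos a b hab) hn0)
  have hp : 0 < bil B p p := norm_pos fun h => by
    have := congrFun h j; simp only [p, Pi.zero_apply] at this; omega
  have hn : 0 < bil B n n := norm_pos fun h => by
    have := congrFun h i; simp only [n, Pi.zero_apply] at this; omega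
  obtain ⟨a, ha⟩ := norm_even p
  obtain ⟨b, hb⟩ := norm_even n
  rw [hpn] at hv
  simp only [bil_sub_left, bil_sub_right, bil_comm B SylowHom.E7.B_symm n p] at hv
  omega

theorem exists_root_nonneg : ∀ (N : ℕ) (v : I7 → ℤ), (∀ i, 0 ≤ v i) → (∑ i, v i).toNat ≤ N → bil B v v = 2 →
    ∃ x : Rt chevE7, C.v x = v := by
  intro N
  induction N with
  | zero =>
    intro v h0 hs hn
    have h1 : ∑ i, v i = 0 := le_antisymm (by have := Int.self_le_toNat (∑ i, v i); omega)
      (Finset.sum_nonneg fun i _ => h0 i)
    have h2 : v = 0 := funext fun i => (Finset.sum_eq_zero_iff_of_nonneg fun i _ => h0 i).1 h1 i (Finset.mem_univ i)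
    rw [h2] at hn
    simp [bil] at hn
  | succ N ih =>
    intro v h0 hs hn
    obtain ⟨i, hi⟩ : ∃ i, 0 < v i * (B *ᵥ v) i := by
      by_contra h
      push Not at h
      have : bil B v v ≤ 0 := by
        rw [bil, dotProduct]
        exact Finset.sum_nonpos fun i _ => h i
      omega
    have hvi : 0 < v i := lt_of_le_of_ne (h0 i) fun e => by rw [← e] at hi; simp at hi
    have hA : 0 < (B *ᵥ v) i := pos_of_mul_pos_right hi (h0 i)
    have hbi : bil B (Pi.single i 1) v = (B *ᵥ v) i := bil_single B i v
    set w : I7 → ℤ := v - (B *ᵥ v) i • Pi.single i 1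
    have hne : ∀ k, k ≠ i → w k = v k := fun k hk => by simp [w, Pi.single_eq_of_ne hk]
    have hwi : w i = v i - (B *ᵥ v) i := by simp [w]
    have hnw : bil B w w = 2 := by
      simp only [w, bil_sub_left, bil_sub_right, bil_smul_left, bil_smul_right, hbi,
        bil_comm B SylowHom.E7.B_symm v (Pi.single i 1), hn]
      rw [show bil B (Pi.single i 1) (Pi.single i 1) = 2 by rw [bil_single]; simp [diag_two]]
      ring
    rcases pos_or_neg hnw with hw | hw
    · have hsum : ∑ k, w k = ∑ k, v k - (B *ᵥ v) i := by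
        simp [w, Finset.sum_sub_distrib, ← Finset.mul_sum]
      obtain ⟨x, hx⟩ := ih w hw (by omega) hnw
      refine ⟨C.w i x, ?_⟩
      rw [C.v_w]
      have hAx : A chevE7 i x = -(B *ᵥ v) i := by
        have h1 : (B *ᵥ w) i = -(B *ᵥ v) i := by
          rw [← bil_single]
          simp only [w, bil_sub_right, bil_smul_right, bil_single]
          simp [diag_two]
          ring
        rw [C.A_lin, ← h1, hx, Matrix.mulVec, dotProduct]
        exact Finset.sum_congr rfl fun k _ => by rw [A_eq]; ring
      rw [hAx, hx]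
      simp [w]
    · have hz : v = v i • Pi.single i 1 := funext fun k => by
        by_cases hk : k = i
        · subst hk; simp
        · have := hne k hk
          have := hw k
          have := h0 k
          simp [Pi.single_eq_of_ne hk]
          omega
      rw [hz] at hn
      simp only [bil_smul_left, bil_smul_right] at hn
      rw [show bil B (Pi.single i 1) (Pi.single i 1) = 2 by rw [bil_single]; simp [diag_two]] at hn
      have hv1 : v i = 1 := by nlinarith
      exact ⟨C.p i, by rw [C.v_p, hz, hv1, one_smul]⟩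

theorem exists_root {v : I7 → ℤ} (hv : bil B v v = 2) : ∃ x : Rt chevE7, C.v x = v := by
  rcases pos_or_neg hv with h | h
  · exact exists_root_nonneg _ v h le_rfl hv
  · obtain ⟨x, hx⟩ := exists_root_nonneg _ (-v) (fun i => by simpa using h i) le_rfl (by
      simpa [bil, Matrix.mulVec_neg] using hv)
    exact ⟨x.rev, by rw [C.v_rev, hx, neg_neg]⟩

theorem norms_table : ∀ y : Rt chevE7, bil B (vv y.val) (vv y.val) = 2 := by
  unfold Rt; decide +kernel

theorem root_norm (x : Rt chevE7) : bil B (C.v x) (C.v x) = 2 := by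
  rw [v_eq]; exact norms_table x

end Cfsg.Agent.Lib.ChevStructure.RegTorusSeven
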