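import Cfsg.Agent.Lib.ChevStructure.RegTorusSeven.Norm
import Cfsg.Agent.Lib.ChevStructure.CheckMild
import Cfsg.Agent.Lib.OddInvolutions.Reflection

/-! Reflections in the roots of type E7 and root subgroups of orthogonal roots. -/

set_option autoImplicit false
set_option linter.unusedSectionVars false

noncomputable section

namespace Cfsg.Agent.Lib.ChevStructure.RegTorusSeven

open Cfsg.Lie Cfsg.Agent.Lib.ChevStructure.RegTorus Cfsg.Agent.Lib.ChevStructure.SylowHom
open scoped Matrix MatrixGroups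

theorem commOK : CommOK C := Cert.E7.core.commOK_mild mildE7

theorem A_bil (i : I7) (x : Rt chevE7) : A chevE7 i x = bil B (Pi.single i 1) (C.v x) := by
  rw [bil_single, C.A_lin, Matrix.mulVec, dotProduct]
  exact Finset.sum_congr rfl fun k _ => by rw [A_eq]; ring

theorem pr_eq_bil (r : Rt chevE7) : ∀ x, pr chevE7 r x = bil B (C.v r) (C.v x) := by
  refine C.ind (fun r => ∀ x, pr chevE7 r x = bil B (C.v r) (C.v x)) ?_ ?_ r
  · intro i x
    rw [C.pr_p, C.v_p, A_bil]
  · intro i r ih x
    have hw : C.sref i ∈ C.WG := Subgroup.subset_closure ⟨i, rfl⟩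
    conv_lhs => rw [← C.w_w i x]
    rw [C.pr_w, ih, ← bil_mulVec B (inv hw) (C.v r) (C.v (C.w i x)), mat_mulVec C hw, mat_mulVec C hw,
      C.sref_apply, C.sref_apply, C.w_w]

theorem acts_nR7 {K : Type*} [Field K] (r : Rt chevE7) (u : Kˣ) :
    ∃ σ ∈ C.WG, C.Acts (C.nR K r u) σ ∧
      ∀ x, C.v (σ x) = C.v x - bil B (C.v r) (C.v x) • C.v r := by
  obtain ⟨σ, hσ, ha, hr⟩ := OddInvolutions.acts_nR C (F := K) r u
  exact ⟨σ, hσ, ha, fun x => by rw [hr x, pr_eq_bil]⟩

theorem commute_X {K : Type*} [CommRing K] {r s : Rt chevE7} (h : bil B (C.v r) (C.v s) = 0) (t u : K) :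
    Commute (C.X K r t) (C.X K s u) := by
  have hne : s ≠ r := fun e => by rw [e, root_norm] at h; norm_num at h
  have hnr : s ≠ r.rev := fun e => by
    rw [e, C.v_rev] at h
    simp only [bil, Matrix.mulVec_neg, dotProduct_neg, neg_eq_zero] at h
    have := root_norm r
    simp only [bil] at this
    omega
  have hnil : chevE7.commTerms r.val s.val = [] := by
    refine List.eq_nil_iff_forall_not_mem.2 fun c hc => ?_
    obtain ⟨q, -, h1, h2, hv⟩ := commOK.terms r s hne hnr c hc
    have hq := root_norm q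
    rw [hv] at hq
    simp only [bil_add_left, bil_add_right, bil_smul_left, bil_smul_right, root_norm,
      bil_comm B SylowHom.E7.B_symm (C.v s) (C.v r), h] at hq
    have h1' : (1 : ℤ) ≤ c.2.2.1 := by exact_mod_cast h1
    have h2' : (1 : ℤ) ≤ c.2.2.2 := by exact_mod_cast h2
    nlinarith
  have := commOK.comm_X (R := K) r s hne hnr t u
  rw [hnil, List.map_nil, List.prod_nil, mul_one] at this
  exact this.symm

end Cfsg.Agent.Lib.ChevStructure.RegTorusSeven

end
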