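import Cfsg.Agent.Lib.ChevStructure.RegTorusSeven.Six
import Cfsg.Agent.Lib.ChevStructure.RegTorusSeven.Basis
import Cfsg.Agent.Lib.ChevStructure.RegTorusSeven.Refl

/-!
An element of the group of type E₇ over an algebraically closed field which twists the Frobenius map to a
monomial element with the characteristic polynomial (X⁴ - X² + 1)(X³ + 1).
-/

set_option autoImplicit false
set_option maxRecDepth 100000
set_option linter.unusedSectionVars false

noncomputable section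

namespace Cfsg.Agent.Lib.ChevStructure.RegTorusSeven

open Cfsg.Lie Cfsg.Agent.Lib.ChevStructure.RegTorus Cfsg.Agent.Lib.ChevStructure.SylowHom
open Cfsg.Agent.Lib.CurtisTits (stMap torus stMap_surj stMap_ker_torus)
open scoped Matrix MatrixGroups

universe u v

local notation "I6" => Fin chevE6.rank

/-- the reflection in the last vector -/
def R7 : Matrix I7 I7 ℤ := Matrix.of fun i j => (if i = j then 1 else 0) - if i.val = 6 then G7 i j else 0

/-- the product with the matrix of the extended element -/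
def W2 : Matrix I7 I7 ℤ :=
  mat7 [[0, 0, 0, 0, 0, -1, 1], [1, 0, 0, 0, 0, -1, 1], [0, 1, 0, 0, 0, 0, -1], [0, 0, 1, 0, 0, 1, -1],
    [0, 0, 0, 1, 0, 0, 1], [0, 0, 0, 0, 1, -1, 1], [1, 0, -1, 1, 0, -1, 1]]

/-- a cyclic basis for it -/
def Zb : Matrix I7 I7 ℤ :=
  mat7 [[0, 0, -1, 1, -1, 1, -1], [0, 0, -1, 0, 0, 0, 0], [1, 0, 1, -1, 0, -1, 0], [0, 1, 1, 0, 0, -1, 0],
    [0, 0, 0, 1, 0, 1, -1], [0, 0, -1, 1, 0, 1, 0], [0, -1, 0, 0, 1, 0, 0]]

theorem W2_eq : R7 * Pm7 = W2 := by decide +kernel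

theorem W2_Zb : W2 * Zb = Zb * comp7 := by decide +kernel

theorem Zb_gram : Zbᵀ * G7 * Zb = Gz := by decide +kernel

theorem R7_col : ∀ j : I7,
    Pi.single j 1 - bil G7 (Pi.single (ix 6 (by omega)) 1) (Pi.single j 1) • Pi.single (ix 6 (by omega)) 1 =
      R7 *ᵥ (Pi.single j 1 : I7 → ℤ) := by
  decide +kernel

/-- The matrix of a reflection in the last basis vector. -/
theorem refl_basis {β : Rt chevE7} {σ : Equiv.Perm (Rt chevE7)}
    (hrefl : ∀ x, C.v (σ x) = C.v x - bil B (C.v β) (C.v x) • C.v β) {Cb : Matrix I7 I7 ℤ}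
    (hgram : Cbᵀ * B * Cb = G7) (hlast : Cb *ᵥ Pi.single (ix 6 (by omega)) 1 = C.v β) :
    mat C σ * Cb = Cb * R7 := by
  have hlin : ∀ x : I7 → ℤ, mat C σ *ᵥ x = x - bil B (C.v β) x • C.v β := by
    intro x
    have e : mat C σ = 1 - Matrix.vecMulVec (C.v β) (B *ᵥ C.v β) := by
      ext m k
      rw [mat, Matrix.of_apply, hrefl, C.v_p, bil_comm B SylowHom.E7.B_symm, bil_single]
      simp [Matrix.vecMulVec_apply, Pi.single_apply, Matrix.one_apply, mul_comm]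
    rw [e, Matrix.sub_mulVec, Matrix.one_mulVec]
    congr 1
    funext m
    rw [bil_comm B SylowHom.E7.B_symm, bil, Matrix.mulVec, dotProduct, Pi.smul_apply, smul_eq_mul, dotProduct,
      Finset.sum_mul]
    exact Finset.sum_congr rfl fun k _ => by rw [Matrix.vecMulVec_apply]; ring
  refine ext_mulVec fun j => ?_
  rw [← Matrix.mulVec_mulVec, ← Matrix.mulVec_mulVec, hlin, ← hlast, bil_gram hgram, ← Matrix.mulVec_smul,
    ← Matrix.mulVec_sub, R7_col]

theorem B_det_ne : (B : Matrix I7 I7 ℤ).det ≠ 0 := by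
  intro h
  obtain ⟨u, hu, hBu⟩ := Matrix.exists_mulVec_eq_zero_iff.2 h
  have := norm_pos hu
  simp [bil, hBu] at this

theorem unimodular {Cy : Matrix I7 I7 ℤ} (h : Cyᵀ * B * Cy = Gz) :
    ∃ Cyi, Cy * Cyi = 1 ∧ Cyi * Cy = 1 := by
  have h1 : IsUnit Cy0.det := by
    refine IsUnit.of_mul_eq_one_right Cy0i.det ?_
    rw [← Matrix.det_mul, Cy0i_mul, Matrix.det_one]
  have e := congrArg Matrix.det (h.trans Cy0_gram.symm)
  simp only [Matrix.det_mul, Matrix.det_transpose] at e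
  have e2 : Cy.det * Cy.det = Cy0.det * Cy0.det :=
    mul_left_cancel₀ B_det_ne (by linear_combination e)
  have hu : IsUnit Cy.det := isUnit_of_mul_isUnit_left (e2 ▸ h1.mul h1)
  exact ⟨Cy⁻¹, Matrix.mul_nonsing_inv _ hu, Matrix.nonsing_inv_mul _ hu⟩

theorem nR_mem_monomial' {K : Type*} [Field K] (r : Rt chevE7) :
    ∀ u : Kˣ, C.nR K r u ∈ chevE7.monomialSubgroup K := by
  refine C.ind (fun r => ∀ u : Kˣ, C.nR K r u ∈ chevE7.monomialSubgroup K) ?_ ?_ r
  · intro i u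
    obtain ⟨c, hc⟩ := C.nR_p K i u
    rw [hc]
    exact mul_mem (C.HT_mem_monomial c) (C.P_mem_monomial i)
  · intro i r ih u
    have e := C.P_nR_conj K i r ((C.ηU K i r)⁻¹ * u)
    rw [mul_inv_cancel_left] at e
    rw [← e]
    exact mul_mem (mul_mem (C.P_mem_monomial i) (ih _)) (inv_mem (C.P_mem_monomial i))

/-- A field map commutes with the map of Steinberg's groups of a subdiagram. -/
theorem hom_fmap {K : Type v} [Field K] (τ : K →+* K) (x : chevE6.SteinbergGroup K) :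
    emb67.hom (RegTorusSix.Lift.fmap τ chevE6 x) = RegTorusSix.Lift.fmap τ chevE7 (emb67.hom x) := by
  refine DFunLike.congr_fun (?_ : emb67.hom.comp (RegTorusSix.Lift.fmap τ chevE6) =
    (RegTorusSix.Lift.fmap τ chevE7).comp emb67.hom) x
  refine PresentedGroup.ext fun ⟨r, t⟩ => ?_
  have e : chevE6.stGen K r.val t = PresentedGroup.of (r, t) := by
    simp [ChevalleyDatum.stGen, ChevalleyDatum.stX, PresentedGroup.of]
  have hg : ∀ s : K, emb67.hom (chevE6.stGen K r.val s) = chevE7.stGen K (emb67.f r).val s := fun s => by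
    rw [ChevalleyDatum.stGen, emb67.hom_mk, emb67.free_stX, CurtisTits.extN_val]; rfl
  rw [← e, MonoidHom.comp_apply, MonoidHom.comp_apply, RegTorusSix.Lift.fmap_gen, hg, hg,
    RegTorusSix.Lift.fmap_gen]

theorem hom_wprod {K : Type v} [Field K] : ∀ L : List I6,
    (stMap CurtisTits.CertE7.cert CurtisTits.suppOne_E7
        (emb67.hom (L.map (RegTorusSix.Lift.wSt RegTorusSix.C K)).prod) : GL chevE7.Idx K) =
      C.wprod K (L.map (Fin.castLE rank67_le))
  | [] => by simp [Core.wprod]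
  | i :: L => by
    have hgen : ∀ (r : Rt chevE6) (t : K),
        (stMap CurtisTits.CertE7.cert CurtisTits.suppOne_E7 (emb67.hom (chevE6.stGen K r.val t)) :
          GL chevE7.Idx K) = C.X K (emb67.f r) t := fun r t => by
      rw [ChevalleyDatum.stGen, emb67.hom_mk, emb67.free_stX, CurtisTits.extN_val]
      exact RegTorusSix.Lift.stMap_gen' CurtisTits.CertE7.cert CurtisTits.suppOne_E7 _ _
    have hp : emb67.f (RegTorusSix.C.p i) = C.p (Fin.castLE rank67_le i) := emb67.f_p i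
    rw [List.map_cons, List.map_cons, List.prod_cons, C.wprod_cons, map_mul, map_mul, Subgroup.coe_mul, hom_wprod L]
    congr 1
    simp only [RegTorusSix.Lift.wSt, map_mul, Subgroup.coe_mul, hgen, emb67.f_rev, hp, Core.P, Core.nR]
    simp

theorem exists_twist_seven {F : Type u} [Field F] [Fintype F] {q r : ℕ} (hq : Fintype.card F = q)
    (S : RegTorusSix.Prm q r) (Ω : Type v) [Field Ω] [Algebra F Ω] [IsAlgClosed Ω] (τ : Ω →+* Ω)
    (hτ : ∀ x, τ x = x ^ q) :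
    ∃ g ∈ chevE7.group Ω, ∃ (e : I7 → Ωˣ) (L : List I7),
      g⁻¹ * Matrix.GeneralLinearGroup.map τ g = C.HT Ω e * C.wprod Ω L ∧
      ∃ Cy Cyi : Matrix I7 I7 ℤ, Cy * Cyi = 1 ∧ Cyi * Cy = 1 ∧ Cyᵀ * B * Cy = Gz ∧
        mat C (C.pprod L) * Cy = Cy * comp7 := by
  have hq1 : 1 < q := hq ▸ Fintype.one_lt_card
  obtain ⟨g6, hg6, e6, L6, htw, y0, hy0⟩ := Six.exists_twist_six hq S Ω τ hτ
  obtain ⟨β, Cb, hF⟩ := exists_frame hy0
  set L7 := L6.map (Fin.castLE rank67_le) with hL7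
  set π := C.pprod L7 with hπdef
  have hπ : π ∈ C.WG := C.pprod_mem_WG L7
  let mg := Matrix.GeneralLinearGroup.map (n := chevE7.Idx) τ
  -- the element of type E₆ carried to type E₇
  obtain ⟨gt, hgt⟩ := stMap_surj CurtisTits.CertE6.cert CurtisTits.suppOne_E6 (⟨g6, hg6⟩ : ↥(chevE6.group Ω))
  have hgt' : (stMap CurtisTits.CertE6.cert CurtisTits.suppOne_E6 gt : GL chevE6.Idx Ω) = g6 :=
    congrArg Subtype.val hgt
  set nt := gt⁻¹ * RegTorusSix.Lift.fmap τ chevE6 gt with hnt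
  set wt := torus CurtisTits.CertE6.cert CurtisTits.suppOne_E6 e6 *
    (L6.map (RegTorusSix.Lift.wSt RegTorusSix.C Ω)).prod with hwt
  have hwl : ∀ L : List I6, (stMap CurtisTits.CertE6.cert CurtisTits.suppOne_E6
      (L.map (RegTorusSix.Lift.wSt RegTorusSix.C Ω)).prod : GL chevE6.Idx Ω) = RegTorusSix.C.wprod Ω L := by
    intro L
    induction L with
    | nil => simp [Core.wprod]
    | cons i L ih =>
      rw [List.map_cons, List.prod_cons, map_mul, Subgroup.coe_mul, ih, RegTorusSix.Lift.stMap_wSt,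
        RegTorusSix.C.wprod_cons]
  obtain ⟨d, hd⟩ := stMap_ker_torus CurtisTits.CertE6.cert CurtisTits.suppOne_E6 (x := nt * wt⁻¹) (by
    rw [map_mul, map_inv, mul_inv_eq_one]
    refine Subtype.ext ?_
    rw [hnt, hwt, map_mul, map_mul, map_inv, Subgroup.coe_mul, Subgroup.coe_mul, Subgroup.coe_inv,
      RegTorusSix.Lift.stMap_fmap τ CurtisTits.CertE6.cert CurtisTits.CertE6.cert, hgt', htw,
      RegTorusSix.Lift.stMap_torus', hwl])
  set g7 : GL chevE7.Idx Ω := (stMap CurtisTits.CertE7.cert CurtisTits.suppOne_E7 (emb67.hom gt) :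
    GL chevE7.Idx Ω) with hg7
  set n := g7⁻¹ * mg g7 with hn
  set eb := emb67.pad (d * e6) with heb
  have hneq : n = C.HT Ω eb * C.wprod Ω L7 := by
    have h1 : nt = torus CurtisTits.CertE6.cert CurtisTits.suppOne_E6 (d * e6) *
        (L6.map (RegTorusSix.Lift.wSt RegTorusSix.C Ω)).prod := by
      rw [map_mul, hd, mul_assoc, ← hwt, inv_mul_cancel_right]
    have h2 := congrArg (fun x => (stMap CurtisTits.CertE7.cert CurtisTits.suppOne_E7 (emb67.hom x) :
      GL chevE7.Idx Ω)) h1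
    simp only [hnt, map_mul, map_inv, hom_fmap, Subgroup.coe_mul, Subgroup.coe_inv] at h2
    rw [RegTorusSix.Lift.stMap_fmap τ CurtisTits.CertE7.cert CurtisTits.CertE7.cert,
      emb67.hom_torus CurtisTits.CertE6.cert CurtisTits.suppOne_E6 CurtisTits.CertE7.cert CurtisTits.suppOne_E7,
      emb67.hom_torus CurtisTits.CertE6.cert CurtisTits.suppOne_E6 CurtisTits.CertE7.cert CurtisTits.suppOne_E7,
      RegTorusSix.Lift.stMap_torus', RegTorusSix.Lift.stMap_torus', hom_wprod, C.HT_mul, ← map_mul] at h2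
    exact h2
  have hacts : C.Acts n π := hneq ▸ C.acts_HT_wprod Ω eb L7
  have hnG : n ∈ chevE7.group Ω :=
    hneq ▸ mul_mem (C.HT_mem_group eb) (C.monomial_le_group (C.wprod_mem_monomial L7))
  -- the twisted map on three orthogonal pairs of root groups
  let T : GL chevE7.Idx Ω → GL chevE7.Idx Ω := fun x => n * mg x * n⁻¹
  have hTmul : ∀ x y, T (x * y) = T x * T y := fun x y => by simp only [T, map_mul]; group
  have hTG : ∀ x ∈ chevE7.group Ω, T x ∈ chevE7.group Ω := fun x hx =>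
    mul_mem (mul_mem hnG (ChevFixed.map_group_le C τ ⟨x, hx, rfl⟩)) (inv_mem hnG)
  have hTX : ∀ r, ∃ c : Ωˣ, ∀ t, T (C.X Ω r t) = C.X Ω (π r) ((c : Ω) * t ^ q) := fun r => by
    obtain ⟨c, hc⟩ := hacts r
    exact ⟨c, fun t => by show n * mg (C.X Ω r t) * n⁻¹ = _; rw [C.X_map, hc, hτ]⟩
  have hTdef : ∀ x, T x = n * mg x * n⁻¹ := fun _ => rfl
  clear_value T
  have hT3 : ∀ r, π (π (π r)) = r →
      ∃ c : Ωˣ, ∀ t, T (T (T (C.X Ω r t))) = C.X Ω r ((c : Ω) * t ^ (q * q * q)) := fun r hr => by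
    obtain ⟨c1, h1⟩ := hTX r
    obtain ⟨c2, h2⟩ := hTX (π r)
    obtain ⟨c3, h3⟩ := hTX (π (π r))
    refine ⟨c3 * c2 ^ q * c1 ^ (q * q), fun t => ?_⟩
    rw [h1, h2, h3, hr]
    congr 1
    simp only [Units.val_mul, Units.val_pow_eq_pow_val, mul_pow, ← pow_mul]
    ring
  have hfix : π (π (π β)) = β := by
    have := hF.fix3
    rwa [pow_succ', pow_two, Equiv.Perm.mul_apply, Equiv.Perm.mul_apply] at this
  have hrev : ∀ x, π x.rev = (π x).rev := fun x => C.WG_rev ⟨π, hπ⟩ x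
  obtain ⟨cp, hcp⟩ := hT3 β hfix
  obtain ⟨cm, hcm⟩ := hT3 β.rev (by rw [hrev, hrev, hrev, hfix])
  set Q := q * q * q with hQdef
  have hQ : 2 ≤ Q := by
    have h1 : 2 * 2 ≤ q * q := Nat.mul_le_mul hq1 hq1
    have h2 : 2 * 2 * 2 ≤ q * q * q := Nat.mul_le_mul h1 hq1
    omega
  obtain ⟨b, hb⟩ := IsAlgClosed.exists_pow_nat_eq (-((cm : Ω))⁻¹) (show 0 < Q - 1 by omega)
  have hb0 : b ≠ 0 := by
    intro h
    rw [h, zero_pow (by omega)] at hb
    exact (neg_ne_zero.2 (inv_ne_zero cm.ne_zero)) hb.symm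
  have hbQ : (cm : Ω) * b ^ Q = -b := by
    rw [show Q = Q - 1 + 1 by omega, pow_succ, hb]
    field_simp
  obtain ⟨a, ha⟩ : ∃ a : Ω, (cp : Ω) * a ^ Q - a = b⁻¹ := by
    have hdeg : (Polynomial.C (cp : Ω) * Polynomial.X ^ Q - Polynomial.X - Polynomial.C b⁻¹).degree ≠ 0 := by
      intro h
      have h1 : (Polynomial.C (cp : Ω) * Polynomial.X ^ Q - Polynomial.X - Polynomial.C b⁻¹).coeff Q = 0 :=
        Polynomial.coeff_eq_zero_of_degree_lt (by rw [h]; exact_mod_cast (show 0 < Q by omega))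
      simp [Polynomial.coeff_X, Polynomial.coeff_C, show 1 ≠ Q by omega, show Q ≠ 0 by omega] at h1
    obtain ⟨a, ha⟩ := IsAlgClosed.exists_root _ hdeg
    exact ⟨a, by simpa [Polynomial.IsRoot, sub_eq_zero] using ha⟩
  set h1 := C.X Ω β a * C.X Ω β.rev b with hh1
  set h2 := T h1 with hh2
  set h3 := T h2 with hh3
  set h1' := C.X Ω β ((cp : Ω) * a ^ Q) * C.X Ω β.rev ((cm : Ω) * b ^ Q) with hh1'
  have hT3h : T h3 = h1' := by rw [hh3, hh2, hh1, hTmul, hTmul, hTmul, hcp, hcm]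
  -- commutation
  have hcomm : ∀ r s, bil B (C.v r) (C.v s) = 0 → ∀ t t' x x' : Ω,
      Commute (C.X Ω r t * C.X Ω r.rev t') (C.X Ω s x * C.X Ω s.rev x') := by
    intro r s h t t' x x'
    refine (Commute.mul_right (commute_X h t x) (commute_X ?_ t x')).mul_left
      (Commute.mul_right (commute_X ?_ t' x) (commute_X ?_ t' x'))
    all_goals
      simp only [C.v_rev, bil, Matrix.mulVec_neg, neg_dotProduct, dotProduct_neg, neg_neg] at h ⊢
      omega
  obtain ⟨ho1, ho2, -⟩ := hF.orth hπ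
  obtain ⟨c1, hc1⟩ := hTX β
  obtain ⟨d1, hd1⟩ := hTX β.rev
  obtain ⟨c2, hc2⟩ := hTX (π β)
  obtain ⟨d2, hd2⟩ := hTX (π β).rev
  have e2 : h2 = C.X Ω (π β) (c1 * a ^ q) * C.X Ω (π β).rev (d1 * b ^ q) := by
    rw [hh2, hh1, hTmul, hc1, hd1, hrev]
  have e3 : h3 = C.X Ω ((π ^ 2) β) (c2 * (c1 * a ^ q) ^ q) * C.X Ω ((π ^ 2) β).rev (d2 * (d1 * b ^ q) ^ q) := by
    rw [hh3, e2, hTmul, hc2, hd2, hrev, pow_two, Equiv.Perm.mul_apply]
  have k12 : Commute h1' h2 := by rw [hh1', e2]; exact hcomm _ _ ho1 _ _ _ _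
  have k13 : Commute h1' h3 := by rw [hh1', e3]; exact hcomm _ _ ho2 _ _ _ _
  have j12 : Commute h1 h2 := by rw [hh1, e2]; exact hcomm _ _ ho1 _ _ _ _
  have j13 : Commute h1 h3 := by rw [hh1, e3]; exact hcomm _ _ ho2 _ _ _ _
  set u : Ωˣ := Units.mk0 (-b) (neg_ne_zero.2 hb0) with hu
  have hN : h1⁻¹ * h1' = C.nR Ω β.rev u := by
    rw [hh1, hh1', Core.nR, mul_inv_rev, C.X_inv, C.X_inv, C.rev_rev, mul_assoc, ← mul_assoc (C.X Ω β (-a)),
      C.X_add, ← mul_assoc, hbQ, hu, Units.val_inv_eq_inv_val, Units.val_mk0, inv_neg, neg_neg, neg_add_eq_sub, ha]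
  set h := h1 * h2 * h3 with hh
  have hTh : T h = h1' * h2 * h3 := by
    rw [hh, hTmul, hTmul, ← hh2, ← hh3, hT3h, mul_assoc h1', k12.left_comm, k13.eq, mul_assoc]
  have hG1 : h1 ∈ chevE7.group Ω := mul_mem (C.X_mem_group _ _) (C.X_mem_group _ _)
  have hG : h ∈ chevE7.group Ω := mul_mem (mul_mem hG1 (hTG _ hG1)) (hTG _ (hTG _ hG1))
  refine ⟨g7 * h, mul_mem (Subtype.coe_prop _) hG, ?_⟩
  have key : (g7 * h)⁻¹ * mg (g7 * h) = C.nR Ω β.rev u * n := by
    rw [← hN]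
    have k2 : Commute (h1⁻¹ * h1') (h2 * h3) :=
      ((j12.inv_left).mul_right j13.inv_left).mul_left (k12.mul_right k13)
    have e : mg (g7 * h) = g7 * T h * n := by
      rw [hTdef, hn, map_mul]; group
    rw [e, hTh, hh]
    calc (g7 * (h1 * h2 * h3))⁻¹ * (g7 * (h1' * h2 * h3) * n)
        = (h2 * h3)⁻¹ * ((h1⁻¹ * h1') * (h2 * h3)) * n := by group
      _ = _ := by rw [k2.eq, inv_mul_cancel_left]
  obtain ⟨σ, hσ, haσ, hrefl⟩ := acts_nR7 (K := Ω) β.rev u
  have hrefl' : ∀ x, C.v (σ x) = C.v x - bil B (C.v β) (C.v x) • C.v β := fun x => by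
    rw [hrefl x, C.v_rev]
    simp [bil]
  obtain ⟨e, L, heL⟩ := C.exists_word_monomial (F := Ω) (g := C.nR Ω β.rev u * n)
    (mul_mem (nR_mem_monomial' _ _) (hneq ▸ mul_mem (C.HT_mem_monomial eb) (C.wprod_mem_monomial L7)))
  have hL : C.pprod L = σ * π :=
    C.acts_unique Ω (heL ▸ C.acts_HT_wprod Ω e L) (C.acts_mul Ω haσ hacts)
  refine ⟨e, L, key.trans heL, ?_⟩
  have hgram : (Cb * Zb)ᵀ * B * (Cb * Zb) = Gz := by
    rw [Matrix.transpose_mul, show Zbᵀ * Cbᵀ * B * (Cb * Zb) = Zbᵀ * (Cbᵀ * B * Cb) * Zb by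
      simp only [Matrix.mul_assoc], hF.gram, Zb_gram]
  obtain ⟨Cyi, hi1, hi2⟩ := unimodular hgram
  refine ⟨Cb * Zb, Cyi, hi1, hi2, hgram, ?_⟩
  rw [hL, mat_mul C hσ, Matrix.mul_assoc, ← Matrix.mul_assoc (mat C π), hF.shift, ← Matrix.mul_assoc,
    ← Matrix.mul_assoc, refl_basis hrefl' hF.gram hF.last, Matrix.mul_assoc Cb, W2_eq, Matrix.mul_assoc Cb,
    W2_Zb, Matrix.mul_assoc]

end Cfsg.Agent.Lib.ChevStructure.RegTorusSeven

end
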